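import Groth.Agent.LeffCoreLib.Relative
import Groth.Agent.LefAmpleLib.IdealPow
import Groth.Agent.IntLib.Cls

/-!
# Vanishing hypotheses over a field from the depth and the cohomology of the divisor
-/

set_option autoImplicit false
set_option backward.isDefEq.respectTransparency false
set_option linter.style.haveILetI false
set_option maxHeartbeats 1000000

universe u

open CategoryTheory CategoryTheory.Limits AlgebraicGeometry TopologicalSpace
open Groth.Agent.CurveLib (tensR)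
open Groth.Agent.IntLib (mk mk_congr mk_tensor mk_structureModule mk_tensorPow mk_eq_mk)
open Groth.Agent.PullbackMod (stalkLin stalkLin_comp)
open scoped TensorProduct

noncomputable section

namespace Groth.Agent.LeffCore

variable {X : Scheme.{u}}

theorem toSub_eq_zero_iff (J : X.IdealSheafData) (x : X) (r : X.presheaf.stalk x) :
    stalkLin (ClSub.toSubscheme J) x (r • ParaFLib.oneG x) = 0 ↔ r ∈ IntMult.stalkIdeal J x := by
  rw [← HilbObsLib.mem_range_idealModι]
  exact ⟨fun h => HilbObsLib.stalk_kernel_ι_exists (ClSub.toSubscheme J) x h,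
    fun ⟨n, hn⟩ => hn ▸ HilbObsLib.stalk_kernel_ι_comp (ClSub.toSubscheme J) x n⟩

theorem exists_smul_oneG (J : X.IdealSheafData) (x : X) (z : (ClSub.quotMod J).presheaf.stalk x) :
    ∃ r : X.presheaf.stalk x, stalkLin (ClSub.toSubscheme J) x (r • ParaFLib.oneG x) = z := by
  haveI := HilbObsLib.epi_toSubscheme J
  obtain ⟨w, rfl⟩ := (PullbackMod.epi_iff_stalk (ClSub.toSubscheme J)).1 inferInstance x z
  obtain ⟨r, hr⟩ := (ParaFLib.bijective_oneG x).2 w
  exact ⟨r, congrArg _ hr⟩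

/-- A stalk of the structure sheaf of a closed subscheme. -/
theorem nonempty_stalk_quotMod (J : X.IdealSheafData) (x : X) :
    Nonempty ((X.presheaf.stalk x ⧸ IntMult.stalkIdeal J x) ≃ₗ[X.presheaf.stalk x]
      (ClSub.quotMod J).presheaf.stalk x) := by
  let l : X.presheaf.stalk x →ₗ[X.presheaf.stalk x] (ClSub.quotMod J).presheaf.stalk x :=
    (stalkLin (ClSub.toSubscheme J) x).comp (LinearMap.toSpanSingleton _ _ (ParaFLib.oneG x))
  have hs : Function.Surjective l := fun z => exists_smul_oneG J x z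
  have hk : LinearMap.ker l = IntMult.stalkIdeal J x := Submodule.ext fun r => toSub_eq_zero_iff J x r
  exact ⟨(Submodule.quotEquivOfEq _ _ hk.symm) ≪≫ₗ l.quotKerEquivOfSurjective hs⟩

/-- Locally free modules on a closed subscheme have at least the depth of its structure sheaf. -/
theorem le_depth_push_flf [IsLocallyNoetherian X] (K : X.IdealSheafData) {E₀ : K.subscheme.Modules}
    (hE : FlatMod.IsFinLocFree E₀) (x : X) (d : ℕ)
    (h : (d : ℕ∞) ≤ LocCoh.depth (X.presheaf.stalk x) ((ClSub.quotMod K).presheaf.stalk x)) :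
    (d : ℕ∞) ≤ LocCoh.depth (X.presheaf.stalk x) (((Scheme.Modules.pushforward K.subschemeι).obj E₀).presheaf.stalk x) := by
  classical
  let R := X.presheaf.stalk x
  obtain ⟨r, ⟨e⟩⟩ := exists_stalk_pi K hE x
  obtain ⟨c⟩ := nonempty_stalk_quotMod K x
  haveI : Module.Finite R (R ⧸ IntMult.stalkIdeal K x) :=
    Module.Finite.of_surjective (Submodule.mkQ _) (Submodule.mkQ_surjective _)
  rw [Depth.depth_congr e]
  rw [← Depth.depth_congr c] at h
  exact le_of_le_of_eq (FibVanLib.le_depth_tensor_free (R ⧸ IntMult.stalkIdeal K x) (Fin r → R) d h)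
    (Depth.depth_congr (TensorProduct.piScalarRight R R (R ⧸ IntMult.stalkIdeal K x) (Fin r)))

variable (k : Type u) [Field k] [X.Over (Spec (CommRingCat.of k))] [IsProper (X ↘ Spec (CommRingCat.of k))]
  {I : X.IdealSheafData} {L : X.Modules} (hL : ClSub.IsInverseOf L (ClSub.idealMod I)) (hA : CohB1.IsAmple L)

include k hL hA in
theorem evVanishTot_of_depth
    (hdepth : ∀ x : X, IsClosed ({x} : Set X) → (2 : ℕ∞) ≤ LocCoh.depth (X.presheaf.stalk x) (X.presheaf.stalk x)) :
    EvVanishTot I := fun D hD => by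
  obtain ⟨m₀, hm₀⟩ := LefAmpleLib.eventually_subsingleton_ideal_tensor k hL hA hD hdepth
  refine ⟨m₀, fun m hm i hi => ?_⟩
  haveI := hm₀ (m + 1) (hm.trans m.le_succ) i hi
  exact ProjCoh.subsingleton_of_iso (AmpleLib.comm _ _) i

include k hL hA in
/-- Depth two at closed points from vanishing in degrees zero and one. -/
theorem depth_of_vanish {M : X.Modules} (hM : Coh.IsCoh M)
    (h : ∃ m₀ : ℕ, ∀ m, m₀ ≤ m → ∀ i, i < 2 →
      Subsingleton (Coh.HH X (CohB1.tensorMod M (CohB1.tensorPow (ClSub.idealMod I) m)) i)) :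
    ∀ x : X, IsClosed ({x} : Set X) → (2 : ℕ∞) ≤ LocCoh.depth (X.presheaf.stalk x) (M.presheaf.stalk x) := by
  haveI := EulerIneqLib.isNoetherian_proper (X := X) k
  obtain ⟨m₀, hm₀⟩ := h
  obtain ⟨d₀, hd₀, hd⟩ := S9710.result (X ↘ Spec (CommRingCat.of k)) L hA
  obtain ⟨N, j, hj, -, ⟨θ⟩⟩ := H1ZeroLib.exists_closedImmersion_of_va k (X ↘ Spec (CommRingCat.of k)) (hd d₀ le_rfl)
  haveI := hj
  let L' := ClSub.idealMod I
  have hLL : mk L * mk L' = 1 := mk_mul_mk hL
  have h1 : LefAmpleLib.twc j 1 = mk L ^ d₀ := (mk_congr θ).trans (mk_tensorPow L d₀)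
  have hneg : ∀ q : ℕ, LefAmpleLib.twc j (-(q : ℤ)) = mk L' ^ (d₀ * q) := fun q => by
    have hq : LefAmpleLib.twc j (q : ℤ) * mk L' ^ (d₀ * q) = 1 := by
      rw [LefAmpleLib.twc_nat, h1, ← pow_mul, ← mul_pow, hLL, one_pow]
    calc LefAmpleLib.twc j (-(q : ℤ))
        = LefAmpleLib.twc j (-(q : ℤ)) * (LefAmpleLib.twc j (q : ℤ) * mk L' ^ (d₀ * q)) := by rw [hq, mul_one]
      _ = mk L' ^ (d₀ * q) := by
        rw [← mul_assoc, mul_comm (LefAmpleLib.twc j (-(q : ℤ))), LefAmpleLib.twc_mul_neg, one_mul]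
  refine (ProjSerreLib.vanish_lt_iff_depth_sub j hM 2).1 ⟨(m₀ : ℤ), fun m hm i hi => ?_⟩
  obtain ⟨q, rfl⟩ : ∃ q : ℕ, m = (q : ℤ) := ⟨m.toNat, by omega⟩
  haveI := hm₀ (d₀ * q) ((Int.ofNat_le.1 hm).trans (Nat.le_mul_of_pos_left q hd₀)) i hi
  obtain ⟨e⟩ : Nonempty (CohB1.tensorMod M (CohB1.tensorPow L' (d₀ * q)) ≅ Pic13.twistOn k j M (-(q : ℤ))) := by
    rw [← mk_eq_mk]
    show mk M * mk (CohB1.tensorPow L' (d₀ * q)) = mk M * LefAmpleLib.twc j (-(q : ℤ))
    rw [hneg, mk_tensorPow]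
  exact ProjCoh.subsingleton_of_iso e i

variable
  (hdepth : ∀ x : X, IsClosed ({x} : Set X) → (2 : ℕ∞) ≤ LocCoh.depth (X.presheaf.stalk x) (X.presheaf.stalk x))
  (hH : ∀ m : ℕ, 1 ≤ m → Subsingleton (Coh.HH X (CohB1.tensorMod (CohB1.tensorPow (ClSub.idealMod I) m)
    (ClSub.quotMod I)) 1))

include k hL hA hdepth hH in
/-- The negative twists of the structure sheaf of the divisor. -/
theorem eventually_quot : ∃ m₀ : ℕ, ∀ m, m₀ ≤ m → ∀ i, i < 2 →
    Subsingleton (Coh.HH X (CohB1.tensorMod (ClSub.quotMod I) (CohB1.tensorPow (ClSub.idealMod I) m)) i) := by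
  haveI := EulerIneqLib.isNoetherian_proper (X := X) k
  obtain ⟨m₀, hm₀⟩ := LefAmpleLib.eventually_subsingleton_ideal_tensor k hL hA
    (BCLib.isFinLocFree_structureModule X) hdepth
  refine ⟨m₀ + 1, fun m hm i hi => ?_⟩
  obtain ⟨m, rfl⟩ : ∃ j, m = j + 1 := ⟨m - 1, by omega⟩
  have hcase : i = 0 ∨ i = 1 := by omega
  rcases hcase with rfl | rfl
  · let L' := ClSub.idealMod I
    let B := CohB1.tensorPow L' (m + 1)
    have hB : PicF.IsInvertible B := AmpleLib.isInvertible_tensorPow (isInvertible_pair hL).2 _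
    haveI := HilbObsLib.epi_toSubscheme I
    have hS := CMRegLib.shortExact_ker (ClSub.toSubscheme I)
    have h0 : Subsingleton (Coh.HH X ((tensR B).obj (Coh.structureModule X)) 0) := by
      obtain ⟨e⟩ : Nonempty (CohB1.tensorMod (Coh.structureModule X) (ClSub.idealMod (I ^ (m + 1))) ≅
          (tensR B).obj (Coh.structureModule X)) := by
        obtain ⟨e₀⟩ := LefAmpleLib.nonempty_idealMod_pow_iso hL m
        exact ⟨AmpleLib.tIso (Iso.refl _) e₀.symm⟩
      haveI := hm₀ (m + 1) (by omega) 0 (by norm_num)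
      exact ProjCoh.subsingleton_of_iso e 0
    have h1 : Subsingleton (Coh.HH X ((tensR B).obj (kernel (ClSub.toSubscheme I))) 1) := by
      obtain ⟨e⟩ : Nonempty (CohB1.tensorMod (Coh.structureModule X) (ClSub.idealMod (I ^ (m + 1 + 1))) ≅
          (tensR B).obj (ClSub.idealMod I)) := by
        obtain ⟨e₀⟩ := LefAmpleLib.nonempty_idealMod_pow_iso hL (m + 1)
        rw [← mk_eq_mk]
        show 1 * mk (ClSub.idealMod (I ^ (m + 1 + 1))) = mk L' * mk (CohB1.tensorPow L' (m + 1))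
        rw [← mk_congr e₀, mk_tensorPow, mk_tensorPow, one_mul, pow_succ' _ (m + 1)]
      haveI := hm₀ (m + 1 + 1) (by omega) 1 (by norm_num)
      exact ProjCoh.subsingleton_of_iso e 1
    have hsur := LefAmpleLib.surjective_H_map_g
      (QCohLib.toAb_shortExact (shortExact_tensR_of_isInvertible hS hB)) 0 h1
    exact @Function.Surjective.subsingleton _ _ _ h0 hsur
  · haveI := hH (m + 1) (Nat.le_add_left 1 m)
    exact ProjCoh.subsingleton_of_iso (AmpleLib.comm _ _) 1

include k hL hA hdepth hH in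
theorem evVanishBot_of_vanish : EvVanishBot I := by
  haveI := EulerIneqLib.isNoetherian_proper (X := X) k
  have hd := depth_of_vanish k hL hA (IntLib.isCoh_quotMod I) (eventually_quot k hL hA hdepth hH)
  have h : ∀ K : X.IdealSheafData, K = I → ∀ x : X, IsClosed ({x} : Set X) →
      ((2 : ℕ) : ℕ∞) ≤ LocCoh.depth (X.presheaf.stalk x) ((ClSub.quotMod K).presheaf.stalk x) := by
    rintro K rfl x hx
    exact hd x hx
  intro E₀ hE₀
  obtain ⟨η⟩ := id hL
  let M := (Scheme.Modules.pushforward (FSch.completionToX X I 0)).obj E₀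
  haveI : IsLocallyNoetherian ((FSch.completionAlong X I).X 0) :=
    LocallyOfFiniteType.isLocallyNoetherian (FSch.completionToX X I 0)
  have hM : Coh.IsCoh M :=
    DevLib.isCoh_pushforward_closed (FSch.completionToX X I 0) (CurveLib.isCoh_of_isFinLocFree hE₀)
  obtain ⟨m₀, hm₀⟩ := FibVanLib.eventually_subsingleton_neg_coh k hA ⟨η⟩ hM
    (BCLib.isFinLocFree_structureModule X) (r := 2) fun x hx =>
      le_depth_push_flf (I ^ (0 + 1)) hE₀ x 2 (h _ (pow_one I) x hx)
  refine ⟨m₀, fun m hm i hi => ?_⟩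
  haveI := hm₀ m hm i hi
  exact ProjCoh.subsingleton_of_iso (AmpleLib.tIso (Iso.refl M) (AmpleLib.unitL _)) i

omit [IsProper (X ↘ Spec (CommRingCat.of k))] [X.Over (Spec (CommRingCat.of k))] hdepth hH in
include hL in
/-- The kernel of a quotient map between thickenings. -/
theorem nonempty_kernel_quotMap [IsNoetherian X] (n : ℕ) :
    Nonempty (CohB1.tensorMod (CohB1.tensorPow (ClSub.idealMod I) (n + 1)) (ClSub.quotMod I) ≅
      kernel (Lef.quotMap (Lef.pow_succ_le I n))) := by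
  have hI := (isInvertible_pair hL).2
  have hle : I ^ (n + 2) ≤ I := by
    calc I ^ (n + 2) = I ^ (n + 1) * I := pow_succ I (n + 1)
      _ ≤ I := mul_le_of_le_one_left' le_top
  let q := Lef.quotMap (Lef.pow_succ_le I n)
  let p := Lef.quotMap hle
  have hq : ∀ (J : X.IdealSheafData) (h : I ^ (n + 2) ≤ J) (x : X) (r : X.presheaf.stalk x),
      stalkLin (Lef.quotMap h) x (stalkLin (ClSub.toSubscheme (I ^ (n + 2))) x (r • ParaFLib.oneG x)) =
        stalkLin (ClSub.toSubscheme J) x (r • ParaFLib.oneG x) := fun J h x r => by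
    rw [← LinearMap.comp_apply, ← stalkLin_comp, LefAmpleLib.toSubscheme_quotMap]
  have hsur : ∀ (J : X.IdealSheafData) (h : I ^ (n + 2) ≤ J) (x : X),
      Function.Surjective (stalkLin (Lef.quotMap h) x) := fun J h x z => by
    obtain ⟨r, rfl⟩ := exists_smul_oneG J x z
    exact ⟨_, hq J h x r⟩
  have hqk : ∀ x, LinearMap.ker (stalkLin q x) = IntMult.stalkIdeal (I ^ (n + 1)) x • ⊤ := fun x => by
    refine le_antisymm (fun z hz => ?_) (Submodule.smul_le.2 fun c hc z _ => ?_)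
    · obtain ⟨r, rfl⟩ := exists_smul_oneG (I ^ (n + 2)) x z
      rw [LinearMap.mem_ker, hq, toSub_eq_zero_iff] at hz
      rw [map_smul]
      exact Submodule.smul_mem_smul hz trivial
    · obtain ⟨r, rfl⟩ := exists_smul_oneG (I ^ (n + 2)) x z
      rw [LinearMap.mem_ker, ← map_smul, smul_smul, hq, toSub_eq_zero_iff]
      exact Ideal.mul_mem_right r _ hc
  have hpk : ∀ x z, stalkLin p x z = 0 ↔ ∀ c ∈ IntMult.stalkIdeal (I ^ (n + 1)) x, c • z = 0 := fun x z => by
    obtain ⟨r, rfl⟩ := exists_smul_oneG (I ^ (n + 2)) x z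
    obtain ⟨u, hu, hI'⟩ := exists_regular_gen hI x
    rw [hq, toSub_eq_zero_iff, hI', FormalFree.stalkIdeal_pow, hI', Ideal.span_singleton_pow]
    simp only [← map_smul, smul_smul, toSub_eq_zero_iff, FormalFree.stalkIdeal_pow, hI', Ideal.span_singleton_pow]
    constructor
    · intro hr c hc
      obtain ⟨a, rfl⟩ := Ideal.mem_span_singleton'.1 hr
      obtain ⟨b, rfl⟩ := Ideal.mem_span_singleton'.1 hc
      exact Ideal.mem_span_singleton'.2 ⟨b * a, by ring⟩
    · intro h
      obtain ⟨a, ha⟩ := Ideal.mem_span_singleton'.1 (h _ (Ideal.mem_span_singleton_self _))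
      refine Ideal.mem_span_singleton'.2 ⟨a, (mul_cancel_left_mem_nonZeroDivisors (pow_mem hu (n + 1))).1 ?_⟩
      rw [← ha]
      ring
  obtain ⟨i, w, hS⟩ := exists_shortExact_twist (isInvertible_idealMod_pow hI n) p q
    (fun x => ⟨hsur _ _ x, hqk x⟩) fun x => ⟨hsur _ _ x, hpk x⟩
  obtain ⟨e₀⟩ := LefAmpleLib.nonempty_idealMod_pow_iso hL n
  exact ⟨AmpleLib.tIso e₀ (Iso.refl _) ≪≫
    IsLimit.conePointUniqueUpToIso hS.fIsKernel (limit.isLimit (parallelPair q 0))⟩

end Groth.Agent.LeffCore
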