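import Groth.Agent.FormalSysLib.IdealQuot
import Groth.Agent.FormalFreeLib.Basic
import Groth.Agent.FibVanLib.Formal
import Groth.Agent.DCohLib.ClosedPush

/-!
# The ideal multiplication sequence at the stalks
-/

set_option autoImplicit false
set_option backward.isDefEq.respectTransparency false
set_option linter.style.haveILetI false
set_option maxHeartbeats 1000000

universe u

open CategoryTheory CategoryTheory.Limits AlgebraicGeometry TopologicalSpace Opposite
open Groth.Agent.PullbackMod
open scoped TensorProduct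

noncomputable section

namespace Groth.Agent.LeffCore

variable {X : Scheme.{u}}

/-- Reduction modulo an ideal, at the stalks. -/
theorem stalk_iqπ (K : X.IdealSheafData) (M : X.Modules) [Coh.IsQCoh M] (x : X) :
    Function.Surjective (stalkLin (FormalSys.iqπ K M) x) ∧
      LinearMap.ker (stalkLin (FormalSys.iqπ K M) x) = IntMult.stalkIdeal K x • ⊤ := by
  by_cases hx : x ∈ Set.range K.subschemeι
  · obtain ⟨z, rfl⟩ := hx
    letI : Algebra (X.presheaf.stalk (K.subschemeι z)) (K.subscheme.presheaf.stalk z) :=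
      (K.subschemeι.stalkMap z).hom.toAlgebra
    letI := Module.compHom (((Scheme.Modules.pullback K.subschemeι).obj M).presheaf.stalk z)
      (K.subschemeι.stalkMap z).hom
    haveI : IsScalarTower (X.presheaf.stalk (K.subschemeι z)) (K.subscheme.presheaf.stalk z)
        (((Scheme.Modules.pullback K.subschemeι).obj M).presheaf.stalk z) :=
      .of_algebraMap_smul fun _ _ => rfl
    obtain ⟨h1, h2⟩ := FormalSys.baseChange_ker _ (isBaseChange_pullStalkL K.subschemeι M z)
      (K.subschemeι.stalkMap_surjective z)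
    have hb := DCohLib.bijective_pushStalk K.subschemeι ((Scheme.Modules.pullback K.subschemeι).obj M) z
    have e := DCohLib.unit_stalk_pushStalk K.subschemeι M z
    refine ⟨fun y => ?_, ?_⟩
    · obtain ⟨m, hm⟩ := h1 (DCohLib.pushStalk K.subschemeι _ z y)
      exact ⟨m, hb.1 ((e m).trans hm)⟩
    · rw [← IdealStalkLib.ker_stalkMap_subschemeι K z]
      refine Eq.trans ?_ h2
      ext m
      show stalkLin (FormalSys.iqπ K M) _ m = 0 ↔ pullStalk K.subschemeι M z m = 0
      refine ⟨fun h => (e m).symm.trans ((congrArg _ h).trans (map_zero _)), fun h => hb.1 ?_⟩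
      exact ((e m).trans h).trans (map_zero _).symm
  · haveI : Subsingleton (((FormalSys.iqF K).obj M).presheaf.stalk x) :=
      DCohLib.subsingleton_stalk_pushforward K.subschemeι _ x hx
    have htop : IntMult.stalkIdeal K x = ⊤ := HilbObsLib.stalkIdeal_eq_top K hx
    refine ⟨fun y => ⟨0, Subsingleton.elim _ _⟩, ?_⟩
    rw [htop, Submodule.top_smul]
    exact top_unique fun m _ => LinearMap.mem_ker.2 (Subsingleton.elim _ _)

theorem exists_desc {M N P : X.Modules} (e : M ⟶ N) [Epi e] (g : M ⟶ P)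
    (h : kernel.ι e ≫ g = 0) : ∃ l : N ⟶ P, e ≫ l = g := by
  let hc := Abelian.epiIsCokernelOfKernel (KernelFork.ofι (kernel.ι e) (kernel.condition e)) (kernelIsKernel e)
  exact ⟨_, (CokernelCofork.IsColimit.desc' hc g h).2⟩

section Twist

variable {J : X.IdealSheafData} (hJ : PicF.IsInvertible (ClSub.idealMod J)) {N Q P : X.Modules}
  (p : N ⟶ P) (q : N ⟶ Q)
  (hq : ∀ x, Function.Surjective (stalkLin q x) ∧ LinearMap.ker (stalkLin q x) = IntMult.stalkIdeal J x • ⊤)
  (hp : ∀ x, Function.Surjective (stalkLin p x) ∧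
    ∀ m, stalkLin p x m = 0 ↔ ∀ c ∈ IntMult.stalkIdeal J x, c • m = 0)

omit hq hp in
include hJ in
/-- A generator of an invertible ideal at a point, with its effect on the tensor product. -/
theorem exists_gen (x : X) :
    ∃ (v : (ClSub.idealMod J).presheaf.stalk x) (u : X.presheaf.stalk x),
      IntMult.stalkIdeal J x = Ideal.span {u} ∧
      Function.Bijective (LinearMap.toSpanSingleton (X.presheaf.stalk x) _ v) ∧
      stalkLin (ClSub.idealModι J) x v = u • ParaFLib.oneG x := by
  obtain ⟨v, hv⟩ := ParaFLib.exists_stalk_gen hJ x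
  obtain ⟨u, hu⟩ := (ParaFLib.bijective_oneG x).2 (stalkLin (ClSub.idealModι J) x v)
  simp only at hu
  refine ⟨v, u, ?_, hv, hu.symm⟩
  ext r
  rw [← HilbObsLib.mem_range_idealModι, Ideal.mem_span_singleton']
  constructor
  · rintro ⟨w, hw⟩
    obtain ⟨c, rfl⟩ := hv.2 w
    simp only [map_smul, ← hu, smul_smul] at hw
    exact ⟨c, (ParaFLib.bijective_oneG x).1 hw⟩
  · rintro ⟨c, rfl⟩
    exact ⟨c • v, by rw [map_smul, ← hu, smul_smul]⟩

theorem tmul_bijective {R : Type u} [CommRing R] {V M : Type u} [AddCommGroup V] [Module R V] [AddCommGroup M]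
    [Module R M] {v : V} (hv : Function.Bijective (LinearMap.toSpanSingleton R V v)) :
    Function.Bijective fun m : M => v ⊗ₜ[R] m := by
  let e : (V ⊗[R] M) ≃ₗ[R] M :=
    (LinearEquiv.rTensor M (LinearEquiv.ofBijective _ hv).symm) ≪≫ₗ TensorProduct.lid R M
  have he : ∀ m, e (v ⊗ₜ[R] m) = m := fun m => by
    have h1 : (LinearEquiv.ofBijective _ hv).symm v = 1 :=
      (LinearEquiv.symm_apply_eq _).2 (show v = (1 : R) • v from (one_smul _ _).symm)
    show TensorProduct.lid R M ((LinearEquiv.rTensor M _) (v ⊗ₜ[R] m)) = m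
    rw [LinearEquiv.rTensor_tmul, TensorProduct.lid_tmul, h1, one_smul]
  refine ⟨fun a b h => by simpa only [he] using congrArg e h, fun z => ⟨e z, e.injective (he (e z))⟩⟩

include hJ hq hp in
/-- If the kernel of `q` is `J N` and the kernel of `p` is the annihilator of `J`, then `J ⊗ P` is the kernel of `q`. -/
theorem exists_shortExact_twist :
    ∃ (i : CohB1.tensorMod (ClSub.idealMod J) P ⟶ N) (w : i ≫ q = 0), (ShortComplex.mk i q w).ShortExact := by
  let O := Coh.structureModule X
  let J' := ClSub.idealMod J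
  let T := fun (x : X) (A B : X.Modules) => DCohLib.stalkTensor x A B
  let μ : CohB1.tensorMod J' N ⟶ CohB1.tensorMod O N := (DCoh.tensorBi.map (ClSub.idealModι J)).app N
  let ν : CohB1.tensorMod J' N ⟶ N := μ ≫ (AmpleLib.unitL N).hom
  let π : CohB1.tensorMod J' N ⟶ CohB1.tensorMod J' P := ((DCoh.tensorBi (X := X)).obj J').map p
  have hlam : ∀ x, Function.Bijective (stalkLin (AmpleLib.unitL N).hom x) := fun x =>
    ⟨(mono_iff_stalk _).1 inferInstance x, (epi_iff_stalk _).1 inferInstance x⟩
  have key : ∀ x, ∃ (u : X.presheaf.stalk x) (a : N.presheaf.stalk x → (CohB1.tensorMod J' N).presheaf.stalk x)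
      (b : N.presheaf.stalk x → N.presheaf.stalk x),
      IntMult.stalkIdeal J x = Ideal.span {u} ∧ Function.Surjective a ∧ Function.Bijective b ∧
      (∀ m, stalkLin ν x (a m) = u • b m) ∧ (∀ m, stalkLin ν x (a m) = 0 ↔ u • m = 0) ∧
      (∀ m, stalkLin π x (a m) = 0 ↔ stalkLin p x m = 0) ∧ Function.Surjective (stalkLin π x) := by
    intro x
    obtain ⟨v, u, hu, hv, hvu⟩ := exists_gen hJ x
    have h1 : Function.Bijective (LinearMap.toSpanSingleton (X.presheaf.stalk x) _ (ParaFLib.oneG x)) :=
      ParaFLib.bijective_oneG x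
    let a := fun m => T x J' N (v ⊗ₜ m)
    let b := fun m => stalkLin (AmpleLib.unitL N).hom x (T x O N (ParaFLib.oneG x ⊗ₜ m))
    have hb : Function.Bijective b := (hlam x).comp ((T x O N).bijective.comp (tmul_bijective h1))
    have hμ : ∀ m, stalkLin ν x (a m) = u • b m := fun m => by
      show stalkLin (μ ≫ _) x (a m) = _
      rw [stalkLin_comp, LinearMap.comp_apply]
      refine (congrArg _ (DCohLib.stalkTensor_natural_left (x := x) (ClSub.idealModι J) (v ⊗ₜ m))).trans ?_
      rw [LinearMap.rTensor_tmul, hvu, ← TensorProduct.smul_tmul', map_smul, map_smul]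
    have hπ : ∀ m, stalkLin π x (a m) = T x J' P (v ⊗ₜ stalkLin p x m) := fun m => by
      refine (DCohLib.stalkTensor_natural_right (x := x) p (v ⊗ₜ m)).trans ?_
      rw [LinearMap.lTensor_tmul]
    refine ⟨u, a, b, hu, ((T x J' N).surjective.comp (tmul_bijective hv).2), hb, hμ, fun m => ?_, fun m => ?_, ?_⟩
    · rw [hμ]
      have hb0 : b (u • m) = u • b m := by
        show stalkLin _ x (T x O N (_ ⊗ₜ (u • m))) = _
        rw [TensorProduct.tmul_smul, map_smul, map_smul]
        rfl
      rw [← hb0]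
      refine ⟨fun h => hb.1 (h.trans ?_), fun h => ?_⟩
      · show (0 : N.presheaf.stalk x) = stalkLin _ x (T x O N (_ ⊗ₜ 0))
        rw [TensorProduct.tmul_zero, map_zero, map_zero]
      · rw [h]
        show stalkLin _ x (T x O N (_ ⊗ₜ 0)) = 0
        rw [TensorProduct.tmul_zero, map_zero, map_zero]
    · rw [hπ]
      refine ⟨fun h => (tmul_bijective hv).1 ?_, fun h => by rw [h, TensorProduct.tmul_zero, map_zero]⟩
      exact ((T x J' P).map_eq_zero_iff.1 h).trans (TensorProduct.tmul_zero _ _).symm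
    · intro z
      obtain ⟨n, rfl⟩ := ((T x J' P).surjective.comp (tmul_bijective hv).2) z
      obtain ⟨m, rfl⟩ := (hp x).1 n
      exact ⟨a m, hπ m⟩
  haveI : Epi π := (epi_iff_stalk _).2 fun x => (key x).choose_spec.choose_spec.choose_spec.2.2.2.2.2.2
  have hkill : ∀ x z, stalkLin π x z = 0 ↔ stalkLin ν x z = 0 := fun x z => by
    obtain ⟨u, a, b, hu, ha, -, -, hν, hπ, -⟩ := key x
    obtain ⟨m, rfl⟩ := ha z
    rw [hν, hπ, (hp x).2, hu]
    refine ⟨fun h => h u (Ideal.mem_span_singleton_self u), fun h c hc => ?_⟩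
    obtain ⟨d, rfl⟩ := Ideal.mem_span_singleton'.1 hc
    rw [mul_smul, h, smul_zero]
  obtain ⟨i, hi⟩ : ∃ i, π ≫ i = ν := exists_desc π ν ((eq_zero_iff_stalk _).2 fun x =>
    LinearMap.ext fun z => by
      rw [stalkLin_comp, LinearMap.comp_apply, LinearMap.zero_apply, ← hkill x]
      rw [← LinearMap.comp_apply, ← stalkLin_comp, kernel.condition, DevLib.stalkLin_zero, LinearMap.zero_apply])
  have hi' : ∀ x z, stalkLin i x (stalkLin π x z) = stalkLin ν x z := fun x z => by
    rw [← LinearMap.comp_apply, ← stalkLin_comp, hi]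
  have hπs : ∀ x, Function.Surjective (stalkLin π x) := (epi_iff_stalk _).1 inferInstance
  have hw : i ≫ q = 0 := (eq_zero_iff_stalk _).2 fun x => LinearMap.ext fun z => by
    obtain ⟨u, a, b, hu, ha, -, hν, -⟩ := key x
    obtain ⟨w, rfl⟩ := hπs x z
    obtain ⟨m, rfl⟩ := ha w
    rw [stalkLin_comp, LinearMap.comp_apply, hi', hν, LinearMap.zero_apply, ← LinearMap.mem_ker, (hq x).2, hu]
    exact Submodule.smul_mem_smul (Ideal.mem_span_singleton_self u) trivial
  refine ⟨i, hw, ?_⟩
  haveI : Mono i := (mono_iff_stalk _).2 fun x => (injective_iff_map_eq_zero _).2 fun z hz => by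
    obtain ⟨w, rfl⟩ := hπs x z
    rw [hi'] at hz
    exact (hkill x w).2 hz
  haveI : Epi q := (epi_iff_stalk _).2 fun x => (hq x).1
  have hex : (ShortComplex.mk i q hw).Exact := HilbObsLib.exact_of_stalk fun x z hz => by
    obtain ⟨u, a, b, hu, ha, hb, hν, -⟩ := key x
    rw [← LinearMap.mem_ker, (hq x).2, hu, Submodule.ideal_span_singleton_smul, Submodule.mem_smul_pointwise_iff_exists] at hz
    obtain ⟨n, -, rfl⟩ := hz
    obtain ⟨m, rfl⟩ := hb.2 n
    exact ⟨stalkLin π x (a m), (hi' x _).trans (hν m)⟩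
  exact { exact := hex }

end Twist

end Groth.Agent.LeffCore
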