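import Groth.Agent.LeffCoreLib.KerSys
import Groth.Agent.FibVanLib.Formal
import Groth.Agent.DCohLib.Restrict

/-!
# Algebraization of maps between completions of locally free modules
-/

set_option autoImplicit false
set_option backward.isDefEq.respectTransparency false
set_option linter.style.haveILetI false
set_option maxHeartbeats 1000000

universe u

open CategoryTheory CategoryTheory.Limits AlgebraicGeometry TopologicalSpace Opposite
open Groth.Agent.CurveLib (tensR secOf)
open Groth.Agent.IntLib (mk mk_congr mk_tensor mk_structureModule mk_tensorPow mk_eq_mk)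
open Groth.Agent.PullbackMod (stalkLin stalkLin_comp mono_iff_stalk epi_iff_stalk)

noncomputable section

namespace Groth.Agent.LeffCore

variable {X : Scheme.{u}} {I : X.IdealSheafData}

variable (I) in
/-- Negative twists of a locally free module have no cohomology in degrees zero and one. -/
def EvVanishTot : Prop :=
  ∀ D : X.Modules, FlatMod.IsFinLocFree D → ∃ m₀ : ℕ, ∀ m, m₀ ≤ m → ∀ i, i < 2 →
    Subsingleton (Coh.HH X (CohB1.tensorMod (ClSub.idealMod (I ^ (m + 1))) D) i)

/-- Projections to the levels of a completion are reductions, at the stalks. -/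
theorem stalk_towerπ (P : X.Modules) [Coh.IsQCoh P] (n : ℕ) (x : X) :
    Function.Surjective (stalkLin (FExist.towerπ I P n) x) ∧
      LinearMap.ker (stalkLin (FExist.towerπ I P n) x) = IntMult.stalkIdeal (I ^ (n + 1)) x • ⊤ :=
  stalk_homEquiv_level n P (FExist.lvθ I P n) x

theorem epi_towerπ (P : X.Modules) [Coh.IsQCoh P] (n : ℕ) : Epi (FExist.towerπ I P n) :=
  (epi_iff_stalk _).2 fun x => (stalk_towerπ P n x).1

/-- The kernel of a projection to a level, for a locally free module. -/
theorem exists_shortExact_towerπ [IsNoetherian X] (hI : PicF.IsInvertible (ClSub.idealMod I)) {P : X.Modules}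
    (hP : FlatMod.IsFinLocFree P) (n : ℕ) :
    ∃ (i : CohB1.tensorMod (ClSub.idealMod (I ^ (n + 1))) P ⟶ P) (w : i ≫ FExist.towerπ I P n = 0),
      (ShortComplex.mk i (FExist.towerπ I P n) w).ShortExact := by
  haveI := (PullbackMod.isQCoh_and_isFP_of_isFinLocFree P hP).1
  refine exists_shortExact_twist (isInvertible_idealMod_pow hI n) (𝟙 P) (FExist.towerπ I P n)
    (fun x => stalk_towerπ P n x) fun x => ⟨fun y => ⟨y, ?_⟩, fun m => ?_⟩
  · rw [PullbackMod.stalkLin_id]; rfl
  · rw [PullbackMod.stalkLin_id]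
    refine ⟨fun h c _ => ?_, fun h => ?_⟩
    · rw [show m = 0 from h, smul_zero]
    · obtain ⟨hfree, -⟩ := DCohLib.free_finite_stalk_of_flf hP x
      obtain ⟨u, hu, huI⟩ := exists_regular_gen hI x
      haveI := hfree
      have h1 := h (u ^ (n + 1)) (by
        rw [FormalFree.stalkIdeal_pow, huI]
        exact Ideal.pow_mem_pow (Ideal.mem_span_singleton_self u) _)
      let b := Module.Free.chooseBasis (X.presheaf.stalk x) (P.presheaf.stalk x)
      refine b.repr.injective (Finsupp.ext fun j => ?_)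
      have h2 : u ^ (n + 1) * b.repr m j = 0 := by
        rw [← smul_eq_mul, ← Finsupp.smul_apply, ← map_smul, h1, map_zero, Finsupp.zero_apply]
      show b.repr m j = b.repr (0 : P.presheaf.stalk x) j
      rw [map_zero, Finsupp.zero_apply]
      exact (mul_right_mem_nonZeroDivisors_eq_zero_iff (pow_mem hu _)).1 ((mul_comm _ _).trans h2)

theorem nonempty_assoc_iso (J P B : X.Modules) :
    Nonempty (CohB1.tensorMod J (CohB1.tensorMod P B) ≅ (tensR B).obj (CohB1.tensorMod J P)) := by
  rw [← mk_eq_mk]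
  show mk J * (mk P * mk B) = mk J * mk P * mk B
  rw [mul_assoc]

/-- Compatible sections of the levels of a twisted locally free module come from a section. -/
theorem exists_section_of_levels [IsNoetherian X] (hI : PicF.IsInvertible (ClSub.idealMod I)) (hW : EvVanishTot I)
    {P B : X.Modules} (hP : FlatMod.IsFinLocFree P) (hB : PicF.IsInvertible B)
    (s : ∀ n, Coh.structureModule X ⟶ (tensR B).obj (FExist.obP I (FSch.complMod I P) n))
    (hs : ∀ n, s (n + 1) ≫ (tensR B).map (FExist.tN I (FSch.complMod I P) n) = s n) :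
    ∃ σ : Coh.structureModule X ⟶ (tensR B).obj P, ∀ n, σ ≫ (tensR B).map (FExist.towerπ I P n) = s n := by
  choose i w hS using fun n => exists_shortExact_towerπ hI hP n
  obtain ⟨m₀, hm₀⟩ := hW (CohB1.tensorMod P B)
    (DCohLib.isFinLocFree_tensor hP (CurveLib.isFinLocFree_of_isInvertible hB))
  let T := tensR B
  obtain ⟨x, hx⟩ := (FibVanLib.limit_compare (T.obj P)
    (fun m => T.obj (CohB1.tensorMod (ClSub.idealMod (I ^ (m + 1))) P))
    (fun m => T.obj (FExist.obP I (FSch.complMod I P) m)) (fun m => T.map (i m))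
    (fun m => T.map (FExist.towerπ I P m))
    (fun m => by rw [← Functor.map_comp, w m, Functor.map_zero])
    (fun m => shortExact_tensR_of_isInvertible (hS m) hB)
    (fun m => T.map (FExist.tN I (FSch.complMod I P) m))
    (fun m => (T.map_comp _ _).symm.trans (congrArg T.map (FExist.towerπ_tN P m))) 2 m₀
    (fun m hm j hj => by
      haveI := hm₀ m hm j hj
      obtain ⟨e⟩ := nonempty_assoc_iso (ClSub.idealMod (I ^ (m + 1))) P B
      exact ProjCoh.subsingleton_of_iso e j) 0).2 (by norm_num) (fun m => cls _ (s m))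
    (fun m => by rw [← cls_comp, hs m])
  obtain ⟨σ, rfl⟩ := (bijective_cls _).2 x
  exact ⟨σ, fun n => (bijective_cls _).1 ((cls_comp _ σ).trans (hx n))⟩

/-- Compatible maps out of a twisted free module lift as soon as compatible sections of the twists do. -/
theorem exists_lift_twisted {P' P : X.Modules} (hP' : IsTwistedFree P') (Q : ℕ → X.Modules)
    (q : ∀ n, Q (n + 1) ⟶ Q n) (π : ∀ n, P ⟶ Q n)
    (hlift : ∀ B : X.Modules, PicF.IsInvertible B → ∀ s : ∀ n, Coh.structureModule X ⟶ (tensR B).obj (Q n),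
      (∀ n, s (n + 1) ≫ (tensR B).map (q n) = s n) →
        ∃ σ : Coh.structureModule X ⟶ (tensR B).obj P, ∀ n, σ ≫ (tensR B).map (π n) = s n)
    (t : ∀ n, P' ⟶ Q n) (ht : ∀ n, t (n + 1) ≫ q n = t n) : ∃ φ : P' ⟶ P, ∀ n, φ ≫ π n = t n := by
  obtain ⟨A', B, r, hA', ⟨η⟩, ⟨d⟩⟩ := hP'
  have hB : PicF.IsInvertible B := AmpleLib.isInvertible_of_tensor_iso η
  haveI := VBLib.isEquivalence_tensR (AmpleLib.comm A' B ≪≫ η)
  let T := tensR A'
  let u := VBLib.untwist η
  let t' : ∀ n, FlatMod.freeMod X r ⟶ (tensR B).obj (Q n) := fun n => T.preimage (d.hom ≫ t n ≫ u.inv.app (Q n))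
  have ht' : ∀ n, T.map (t' n) ≫ u.hom.app (Q n) = d.hom ≫ t n := fun n => by
    rw [Functor.map_preimage, Category.assoc, Category.assoc]
    exact congrArg (d.hom ≫ ·) ((congrArg (t n ≫ ·) (u.inv_hom_id_app (Q n))).trans (Category.comp_id _))
  have htc : ∀ n, t' (n + 1) ≫ (tensR B).map (q n) = t' n := fun n => by
    apply T.map_injective
    refine (cancel_mono (u.hom.app (Q n))).1 ?_
    rw [Functor.map_comp, Category.assoc, ht', ← ht n]
    refine (congrArg (T.map (t' (n + 1)) ≫ ·) (untwist_natural η (q n)).symm).trans ?_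
    rw [← Category.assoc, ht', Category.assoc]
  choose σ hσ using fun j : Fin r => hlift B hB
    (fun n => Sigma.ι (fun _ : Fin r => Coh.structureModule X) j ≫ t' n)
    (fun n => (Category.assoc _ _ _).trans (congrArg (_ ≫ ·) (htc n)))
  let φ' : FlatMod.freeMod X r ⟶ (tensR B).obj P := Sigma.desc σ
  have hφ' : ∀ n, φ' ≫ (tensR B).map (π n) = t' n := fun n => Sigma.hom_ext _ _ fun j => by
    rw [Sigma.ι_desc_assoc]
    exact hσ j n
  refine ⟨d.inv ≫ T.map φ' ≫ u.hom.app P, fun n => ?_⟩
  refine (cancel_epi d.hom).1 ?_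
  rw [← ht' n, ← hφ' n, Category.assoc, Category.assoc, Iso.hom_inv_id_assoc, Functor.map_comp, Category.assoc]
  exact congrArg (T.map φ' ≫ ·) (untwist_natural η (π n))

theorem towerMap_app_comm {𝔐 𝔑 : FSch.ModSys (FSch.completionAlong X I)} (α : 𝔐 ⟶ 𝔑) {P : X.Modules}
    (t : ∀ n, P ⟶ FExist.obP I 𝔐 n) (ht : ∀ n, t (n + 1) ≫ FExist.tN I 𝔐 n = t n) (n : ℕ) :
    (t (n + 1) ≫ (Scheme.Modules.pushforward (FSch.completionToX X I (n + 1))).map (α.app (n + 1))) ≫
        FExist.tN I 𝔑 n =
      t n ≫ (Scheme.Modules.pushforward (FSch.completionToX X I n)).map (α.app n) := by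
  rw [Category.assoc, ← (FExist.comm_iff α.app n).2 (α.comm n), ← Category.assoc, ht]

theorem eq_of_towerπ {P' P : X.Modules} [Coh.IsQCoh P'] (φ : P' ⟶ P) (α : FSch.complMod I P' ⟶ FSch.complMod I P)
    (h : ∀ n, φ ≫ FExist.towerπ I P n =
      FExist.towerπ I P' n ≫ (Scheme.Modules.pushforward (FSch.completionToX X I n)).map (α.app n)) :
    FSch.complModMap I φ = α := by
  refine FExist.towerMap_injective (NatTrans.ext (funext fun n => ?_))
  obtain ⟨n⟩ := n
  haveI := epi_towerπ (I := I) P' n
  exact (cancel_epi (FExist.towerπ I P' n)).1 ((FExist.towerπ_map φ n).trans (h n))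

/-- A morphism of completions out of a twisted free module comes from a morphism of modules. -/
theorem exists_complModMap_eq [IsNoetherian X] (hI : PicF.IsInvertible (ClSub.idealMod I)) (hW : EvVanishTot I)
    {P' P : X.Modules} (hP' : IsTwistedFree P') (hP'' : FlatMod.IsFinLocFree P') (hP : FlatMod.IsFinLocFree P)
    (α : FSch.complMod I P' ⟶ FSch.complMod I P) : ∃ φ : P' ⟶ P, FSch.complModMap I φ = α := by
  haveI := (PullbackMod.isQCoh_and_isFP_of_isFinLocFree P' hP'').1
  let t : ∀ n, P' ⟶ FExist.obP I (FSch.complMod I P) n := fun n =>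
    FExist.towerπ I P' n ≫ (Scheme.Modules.pushforward (FSch.completionToX X I n)).map (α.app n)
  have ht : ∀ n, t (n + 1) ≫ FExist.tN I (FSch.complMod I P) n = t n :=
    towerMap_app_comm α (fun n => FExist.towerπ I P' n) (fun n => FExist.towerπ_tN P' n)
  have hl : ∀ B : X.Modules, PicF.IsInvertible B →
      ∀ s : ∀ n, Coh.structureModule X ⟶ (tensR B).obj (FExist.obP I (FSch.complMod I P) n),
      (∀ n, s (n + 1) ≫ (tensR B).map (FExist.tN I (FSch.complMod I P) n) = s n) →
        ∃ σ : Coh.structureModule X ⟶ (tensR B).obj P, ∀ n, σ ≫ (tensR B).map (FExist.towerπ I P n) = s n :=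
    fun B hB s hs => exists_section_of_levels hI hW hP hB s hs
  obtain ⟨φ, hφ⟩ := exists_lift_twisted (P := P) hP' (FExist.obP I (FSch.complMod I P))
    (FExist.tN I (FSch.complMod I P)) (FExist.towerπ I P) hl t ht
  exact ⟨φ, eq_of_towerπ φ α hφ⟩

end Groth.Agent.LeffCore
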