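import Groth.Agent.LeffCoreLib.Lift
import Groth.Agent.CMRegLib.Family
import Groth.Agent.DCohLib.TensorPerf



/-!
# A negative twist of a free module surjecting onto a levelwise locally free system
-/

set_option autoImplicit false
set_option backward.isDefEq.respectTransparency false
set_option linter.style.haveILetI false
set_option maxHeartbeats 1000000

universe u

open CategoryTheory CategoryTheory.Limits AlgebraicGeometry TopologicalSpace Opposite
open Groth.Agent.CurveLib (tensR secOf)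
open Groth.Agent.PullbackMod (stalkLin stalkLin_comp mono_iff_stalk epi_iff_stalk)

noncomputable section

namespace Groth.Agent.LeffCore

variable {X : Scheme.{u}}

/-- The class in degree zero of a global map out of `O`. -/
def cls (M : X.Modules) (g : Coh.structureModule X ⟶ M) : Coh.HH X M 0 := (secOf M).symm (AmpleLib.sec g)

theorem bijective_cls (M : X.Modules) : Function.Bijective (cls M) :=
  ⟨fun a b e => DCohLib.hom_unit_ext ((secOf M).symm.injective e),
    fun c => ⟨DCohLib.secHom M (secOf M c), by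
      simp only [cls]; rw [AmpleLib.sec_secHom, AddEquiv.symm_apply_apply]⟩⟩

theorem cls_comp {N N' : X.Modules} (f : N ⟶ N') (g : Coh.structureModule X ⟶ N) :
    cls N' (g ≫ f) = Sheaf.H.map ((SheafOfModules.toSheaf X.ringCatSheaf).map f) 0 (cls N g) := by
  apply (secOf N').injective
  simp only [cls, AddEquiv.apply_symm_apply]
  show _ = CohBase.H0Equiv (⊤ : X.Opens) (Coh.toAb N') (CohBase.HEquiv _ 0 (Sheaf.H.map _ 0 _))
  rw [CohBase.HEquiv_map, CohBase.H0Equiv_hmap]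
  show _ = f.app ⊤ (secOf N ((secOf N).symm (AmpleLib.sec g)))
  rw [AddEquiv.apply_symm_apply]
  rfl

/-- Surjectivity on global maps out of `O`, from surjectivity in degree zero. -/
theorem surjective_unitHom {N N' : X.Modules} (f : N ⟶ N')
    (h : Function.Surjective (Sheaf.H.map ((SheafOfModules.toSheaf X.ringCatSheaf).map f) 0)) :
    Function.Surjective (fun g : Coh.structureModule X ⟶ N => g ≫ f) := by
  intro σ
  obtain ⟨z, hz⟩ := h (cls N' σ)
  obtain ⟨g, rfl⟩ := (bijective_cls N).2 z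
  exact ⟨g, (bijective_cls N').1 ((cls_comp f g).trans hz)⟩

theorem exists_family_free (T : ℕ → X.Modules) (t : ∀ n, T (n + 1) ⟶ T n)
    (hlift : ∀ σ : Coh.structureModule X ⟶ T 0, ∃ s : ∀ n, Coh.structureModule X ⟶ T n,
      (∀ n, s (n + 1) ≫ t n = s n) ∧ s 0 = σ) (r : ℕ) (Φ : FlatMod.freeMod X r ⟶ T 0) :
    ∃ Ψ : ∀ n, FlatMod.freeMod X r ⟶ T n, (∀ n, Ψ (n + 1) ≫ t n = Ψ n) ∧ Ψ 0 = Φ := by
  choose s hs hs0 using fun i : Fin r => hlift (Sigma.ι (fun _ : Fin r => Coh.structureModule X) i ≫ Φ)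
  refine ⟨fun n => Sigma.desc fun i => s i n, fun n => Sigma.hom_ext _ _ fun i => ?_, Sigma.hom_ext _ _ fun i => ?_⟩
  · rw [Sigma.ι_desc_assoc, Sigma.ι_desc]
    exact hs i n
  · rw [Sigma.ι_desc]
    exact hs0 i

/-- A twist of a free module of finite rank by an invertible module with a given inverse. -/
def IsTwistedFree (P : X.Modules) : Prop :=
  ∃ (A' B : X.Modules) (r : ℕ), PicF.IsInvertible A' ∧ Nonempty (CohB1.tensorMod B A' ≅ Coh.structureModule X) ∧
    Nonempty ((tensR A').obj (FlatMod.freeMod X r) ≅ P)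

theorem untwist_natural {B C : X.Modules} (η : CohB1.tensorMod B C ≅ Coh.structureModule X) {M N : X.Modules}
    (f : M ⟶ N) : (VBLib.untwist η).hom.app M ≫ f =
      (tensR C).map ((tensR B).map f) ≫ (VBLib.untwist η).hom.app N :=
  ((VBLib.untwist η).hom.naturality f).symm

theorem untwist_compatible {B C F M N : X.Modules} (η : CohB1.tensorMod B C ≅ Coh.structureModule X)
    (a : F ⟶ (tensR B).obj M) (b : F ⟶ (tensR B).obj N) (f : M ⟶ N) (h : a ≫ (tensR B).map f = b) :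
    ((tensR C).map a ≫ (VBLib.untwist η).hom.app M) ≫ f = (tensR C).map b ≫ (VBLib.untwist η).hom.app N := by
  rw [Category.assoc, untwist_natural, ← Category.assoc, ← Functor.map_comp, h]

theorem finite_stalk_of_isCoh [IsLocallyNoetherian X] {M : X.Modules} (hM : Coh.IsCoh M) (x : X) :
    Module.Finite (X.presheaf.stalk x) (M.presheaf.stalk x) :=
  haveI := hM.1
  FlatLocus.finite_stalk _ (QCohLib.isFP_of_isCoh _ hM) x

variable {A : Type u} [CommRing A] [IsNoetherianRing A] [X.Over (Spec (CommRingCat.of A))]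
  [IsProper (X ↘ Spec (CommRingCat.of A))] {I : X.IdealSheafData} {L : X.Modules}
  (hL : ClSub.IsInverseOf L (ClSub.idealMod I)) (hA : CohB1.IsAmple L) (hV : EvVanishBot I)
  (𝔐 : FSch.ModSys (FSch.completionAlong X I)) (h𝔐 : LefX.LevelwiseFinLocFree 𝔐)

include A hL hA hV h𝔐 in
/-- Sections of a high twist of the bottom level lift compatibly to all levels. -/
theorem exists_lift : ∃ m₁, ∀ m, m₁ ≤ m → ∀ σ : Coh.structureModule X ⟶ tw 𝔐 L m 0,
    ∃ s : ∀ n, Coh.structureModule X ⟶ tw 𝔐 L m n, (∀ n, s (n + 1) ≫ twT 𝔐 L m n = s n) ∧ s 0 = σ := by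
  obtain ⟨m₁, h₁⟩ := exists_surjective_toBot (A := A) hL hA hV 𝔐 h𝔐
  refine ⟨m₁, fun m hm σ => ?_⟩
  obtain ⟨N, hN, hbij⟩ := h₁ m hm
  let T := tensR (CohB1.tensorPow L m)
  obtain ⟨xN, hxN⟩ := surjective_unitHom _ hN σ
  simp only at hxN
  choose g hg using fun d (z : Coh.structureModule X ⟶ tw 𝔐 L m (N + d)) =>
    (LefAmpleLib.bijective_unitHom_iff _ (hbij (N + d) (Nat.le_add_right N d))).2 z
  let yd : ∀ d, Coh.structureModule X ⟶ tw 𝔐 L m (N + d) := fun d => Nat.rec xN (fun d z => g d z) d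
  have hyd : ∀ d, yd (d + 1) ≫ twT 𝔐 L m (N + d) = yd d := fun d => hg d (yd d)
  have hex : ∀ n, ∃ y : Coh.structureModule X ⟶ tw 𝔐 L m n, ∀ d (h : n = N + d), y = yd d ≫ eqToHom (by rw [h]) := by
    intro n
    by_cases hn : ∃ d, n = N + d
    · obtain ⟨d, rfl⟩ := hn
      refine ⟨yd d, fun d' h => ?_⟩
      obtain rfl : d' = d := by omega
      exact (Category.comp_id _).symm
    · exact ⟨0, fun d h => (hn ⟨d, h⟩).elim⟩
  choose y hy using hex
  have hyc : ∀ n, N ≤ n → y (n + 1) ≫ twT 𝔐 L m n = y n := by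
    intro n hn
    obtain ⟨d, rfl⟩ := Nat.exists_eq_add_of_le hn
    rw [hy (N + d + 1) (d + 1) rfl, hy (N + d) d rfl, eqToHom_refl, Category.comp_id]
    exact (hyd d).trans (Category.comp_id _).symm
  let z : ℕ → ∀ n, Coh.structureModule X ⟶ tw 𝔐 L m n := fun d =>
    Nat.rec y (fun _ w n => w (n + 1) ≫ twT 𝔐 L m n) d
  have hz : ∀ d n M, n + d = M → z d n ≫ T.map (toBot 𝔐 n) = y M ≫ T.map (toBot 𝔐 M) := by
    intro d
    induction d with
    | zero => intro n M h; subst h; rfl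
    | succ d ih =>
      intro n M h
      show (z d (n + 1) ≫ T.map (FExist.tN I 𝔐 n)) ≫ T.map (toBot 𝔐 n) = _
      rw [Category.assoc, ← T.map_comp, ← toBot_succ]
      exact ih (n + 1) M (by omega)
  refine ⟨fun n => z (N - n) n, fun n => ?_, ?_⟩
  · show z (N - (n + 1)) (n + 1) ≫ twT 𝔐 L m n = z (N - n) n
    by_cases hn : N ≤ n
    · rw [Nat.sub_eq_zero_of_le hn, Nat.sub_eq_zero_of_le (hn.trans n.le_succ)]
      exact hyc n hn
    · rw [show N - n = (N - (n + 1)) + 1 by omega]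
  · have h0 := hz N 0 N (Nat.zero_add N)
    rw [hy N 0 rfl, eqToHom_refl, Category.comp_id] at h0
    show z (N - 0) 0 = σ
    rw [Nat.sub_zero, ← hxN]
    refine Eq.trans ?_ h0
    rw [toBot, T.map_id, Category.comp_id]

omit [IsNoetherianRing A] [IsProper (X ↘ Spec (CommRingCat.of A))] [X.Over (Spec (CommRingCat.of A))] in
/-- A compatible family of maps from a module to the levels is a map from its completion. -/
theorem exists_hom_of_compatible {P : X.Modules} (ψ : ∀ n, P ⟶ FExist.obP I 𝔐 n)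
    (hψ : ∀ n, ψ (n + 1) ≫ FExist.tN I 𝔐 n = ψ n) :
    ∃ θ : FSch.complMod I P ⟶ 𝔐, ∀ n, (FExist.adjL I n).homEquiv _ _ (θ.app n) = ψ n := by
  let θ : ∀ n, (FSch.complMod I P).F n ⟶ 𝔐.F n := fun n => ((FExist.adjL I n).homEquiv P (𝔐.F n)).symm (ψ n)
  have hθ : ∀ n, (FExist.adjL I n).homEquiv P (𝔐.F n) (θ n) = ψ n := fun n => Equiv.apply_symm_apply _ _
  refine ⟨⟨θ, fun n => ?_⟩, hθ⟩
  let Φ := FSch.complTransIso I n
  let K := Scheme.Modules.pullback ((FSch.completionAlong X I).ι n)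
  have h1 : (FExist.adjL I (n + 1)).homEquiv P _ (θ (n + 1)) ≫ FExist.tN I 𝔐 n =
      (FExist.adjL I n).homEquiv P _ (Φ.inv.app P ≫ K.map (θ (n + 1)) ≫ (𝔐.e n).hom) :=
    FExist.homEquiv_absT (FExist.adjL I n) (FExist.adjL I (n + 1)) K Φ P (θ (n + 1)) _ (𝔐.e n).hom
      (Φ.hom_inv_id_app_assoc P _).symm
  rw [hθ, hψ, ← hθ n] at h1
  have h2 := ((FExist.adjL I n).homEquiv P _).injective h1
  show K.map (θ (n + 1)) ≫ (𝔐.e n).hom = ((FSch.complMod I P).e n).hom ≫ θ n
  rw [h2]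
  exact (Φ.hom_inv_id_app_assoc P _).symm

include h𝔐 in
/-- A compatible family is surjective on every level as soon as it is surjective at the bottom. -/
theorem epi_of_epi_bot {P : X.Modules} (ψ : ∀ n, P ⟶ FExist.obP I 𝔐 n)
    (hψ : ∀ n, ψ (n + 1) ≫ FExist.tN I 𝔐 n = ψ n) [Epi (ψ 0)]
    (hfin : ∀ n (x : X), Module.Finite (X.presheaf.stalk x) ((FExist.obP I 𝔐 n).presheaf.stalk x)) :
    ∀ n, Epi (ψ n) := by
  have hb : ∀ n, ψ n ≫ toBot 𝔐 n = ψ 0 := by
    intro n
    induction n with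
    | zero => rw [toBot, Category.comp_id]
    | succ n ih => rw [toBot_succ, ← Category.assoc, hψ, ih]
  intro n
  rcases n with _ | n
  · infer_instance
  refine (epi_iff_stalk _).2 fun x => ?_
  by_cases hx : x ∈ Set.range (FSch.completionToX X I (n + 1))
  · haveI := hfin (n + 1) x
    have h0 : Function.Surjective (stalkLin (ψ 0) x) := (epi_iff_stalk _).1 inferInstance x
    rw [← hb (n + 1), stalkLin_comp] at h0
    rw [← LinearMap.range_eq_top, eq_top_iff]
    refine Submodule.le_of_le_smul_of_le_jacobson_bot (I := IntMult.stalkIdeal I x) Module.Finite.fg_top ?_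
      fun m _ => ?_
    · refine (IdealStalkLib.stalkIdeal_le_maximal I ?_).trans (IsLocalRing.maximalIdeal_le_jacobson _)
      rw [← SetLike.mem_coe, ← Scheme.IdealSheafData.support_pow_succ I (n + 1),
        ← (I ^ (n + 1 + 1)).range_subschemeι]
      exact hx
    · obtain ⟨w, hw⟩ := h0 (stalkLin (toBot 𝔐 (n + 1)) x m)
      have hk : m - stalkLin (ψ (n + 1)) x w ∈ IntMult.stalkIdeal I x •
          (⊤ : Submodule (X.presheaf.stalk x) ((FExist.obP I 𝔐 (n + 1)).presheaf.stalk x)) := by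
        rw [← (stalk_toBot 𝔐 h𝔐 x n).2, LinearMap.mem_ker, map_sub, ← hw]
        exact sub_self _
      have := Submodule.add_mem_sup (LinearMap.mem_range_self (stalkLin (ψ (n + 1)) x) w) hk
      rwa [add_sub_cancel] at this
  · haveI : Subsingleton ((FExist.obP I 𝔐 (n + 1)).presheaf.stalk x) :=
      DCohLib.subsingleton_stalk_pushforward (FSch.completionToX X I (n + 1)) _ x hx
    exact fun y => ⟨0, Subsingleton.elim _ _⟩

include A h𝔐 in
/-- Compatible maps from a free module to a twist give an epimorphism from the completion of the negative twist. -/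
theorem exists_epi_of_twisted {B A' : X.Modules} (η : CohB1.tensorMod B A' ≅ Coh.structureModule X)
    (hA' : PicF.IsInvertible A') (r : ℕ)
    (Ψ : ∀ n, FlatMod.freeMod X r ⟶ (tensR B).obj (FExist.obP I 𝔐 n))
    (hΨ : ∀ n, Ψ (n + 1) ≫ (tensR B).map (FExist.tN I 𝔐 n) = Ψ n) [Epi (Ψ 0)] :
    ∃ (P : X.Modules) (θ : FSch.complMod I P ⟶ 𝔐), IsTwistedFree P ∧ FlatMod.IsFinLocFree P ∧
      ∀ n, Epi (θ.app n) := by
  haveI := isNoetherian_of_proper A (X := X)
  let u := VBLib.untwist η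
  let ψ : ∀ n, (tensR A').obj (FlatMod.freeMod X r) ⟶ FExist.obP I 𝔐 n := fun n =>
    (tensR A').map (Ψ n) ≫ u.hom.app (FExist.obP I 𝔐 n)
  have hψ : ∀ n, ψ (n + 1) ≫ FExist.tN I 𝔐 n = ψ n := fun n =>
    untwist_compatible η (Ψ (n + 1)) (Ψ n) (FExist.tN I 𝔐 n) (hΨ n)
  haveI : Epi ((tensR A').map (Ψ 0)) := inferInstance
  haveI : Epi (ψ 0) := epi_comp _ _
  have hfin : ∀ n (x : X), Module.Finite (X.presheaf.stalk x) ((FExist.obP I 𝔐 n).presheaf.stalk x) := fun n x =>
    finite_stalk_of_isCoh (isCoh_obP (A := A) 𝔐 h𝔐 n) x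
  have hepi := epi_of_epi_bot 𝔐 h𝔐 ψ hψ hfin
  obtain ⟨θ, hθ⟩ := exists_hom_of_compatible 𝔐 ψ hψ
  refine ⟨_, θ, ⟨A', B, r, hA', ⟨η⟩, ⟨Iso.refl _⟩⟩, DCohLib.isFinLocFree_tensor (DCohLib.isFinLocFree_freeMod r)
    (CurveLib.isFinLocFree_of_isInvertible hA'), fun n => ?_⟩
  have h1 : (FExist.adjL I n).unit.app _ ≫ (Scheme.Modules.pushforward (FSch.completionToX X I n)).map (θ.app n) =
      ψ n := ((FExist.adjL I n).homEquiv_unit _ _ _).symm.trans (hθ n)
  haveI := hepi n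
  haveI : Epi ((Scheme.Modules.pushforward (FSch.completionToX X I n)).map (θ.app n)) := epi_of_epi_fac h1
  haveI := (FExist.pushFF I n).faithful
  exact (Scheme.Modules.pushforward (FSch.completionToX X I n)).epi_of_epi_map inferInstance

theorem exists_epi_twist_free [IsNoetherian X] {M B : X.Modules} (hM : Coh.IsCoh M) (hB : PicF.IsInvertible B)
    (hgg : Curv2.IsGloballyGenerated (CohB1.tensorMod M B)) :
    ∃ (r : ℕ) (Φ : FlatMod.freeMod X r ⟶ (tensR B).obj M), Epi Φ :=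
  CMRegLib.exists_epi_free_qcoh (CMRegLib.isCoh_tensor_inv hM hB).1 (CMRegLib.isCoh_tensor_inv hM hB).2 hgg

include A h𝔐 in
/-- The epimorphism, at one twist. -/
theorem exists_epi_completion_at (m : ℕ) (hB : PicF.IsInvertible (CohB1.tensorPow L m))
    (hlift : ∀ σ : Coh.structureModule X ⟶ tw 𝔐 L m 0, ∃ s : ∀ n, Coh.structureModule X ⟶ tw 𝔐 L m n,
      (∀ n, s (n + 1) ≫ twT 𝔐 L m n = s n) ∧ s 0 = σ)
    (hgg : Curv2.IsGloballyGenerated (CohB1.tensorMod (FExist.obP I 𝔐 0) (CohB1.tensorPow L m))) :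
    ∃ (P : X.Modules) (θ : FSch.complMod I P ⟶ 𝔐), IsTwistedFree P ∧ FlatMod.IsFinLocFree P ∧
      ∀ n, Epi (θ.app n) := by
  haveI := isNoetherian_of_proper A (X := X)
  obtain ⟨A', hA', ⟨η⟩⟩ := AmpleEmb.exists_isInverseOf hB
  obtain ⟨r, Φ, hΦ⟩ := exists_epi_twist_free (isCoh_obP (A := A) 𝔐 h𝔐 0) hB hgg
  obtain ⟨Ψ, hΨ, hΨ0⟩ := exists_family_free (fun n => tw 𝔐 L m n) (twT 𝔐 L m) hlift r Φ
  haveI : Epi (Ψ 0) := hΨ0.symm ▸ hΦ
  exact exists_epi_of_twisted (A := A) 𝔐 h𝔐 η hA' r Ψ hΨ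

include A hL hA hV h𝔐 in
/-- A negative twist of a free module surjects onto the system. -/
theorem exists_epi_completion : ∃ (P : X.Modules) (θ : FSch.complMod I P ⟶ 𝔐),
    IsTwistedFree P ∧ FlatMod.IsFinLocFree P ∧ ∀ n, Epi (θ.app n) := by
  haveI := isNoetherian_of_proper A (X := X)
  obtain ⟨m₁, hm₁⟩ := exists_lift (A := A) hL hA hV 𝔐 h𝔐
  obtain ⟨N₀, hN₀⟩ := AmpleEmb.eventually_isGloballyGenerated hA (isCoh_obP (A := A) 𝔐 h𝔐 0)
  exact exists_epi_completion_at (A := A) 𝔐 h𝔐 (max m₁ N₀) (AmpleLib.isInvertible_tensorPow hA.1 _)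
    (hm₁ _ (le_max_left _ _)) (hN₀ _ (le_max_right _ _))

end Groth.Agent.LeffCore
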