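import Groth.Agent.LeffCoreLib.Generate
import Groth.Agent.FibVanLib.Seq
import Groth.Agent.DCohLib.Pullback

/-!
# Kernels of epimorphisms of levelwise locally free systems
-/

set_option autoImplicit false
set_option backward.isDefEq.respectTransparency false
set_option linter.style.haveILetI false
set_option maxHeartbeats 1000000

universe u

open CategoryTheory CategoryTheory.Limits AlgebraicGeometry TopologicalSpace Opposite

noncomputable section

namespace Groth.Agent.LeffCore

/-- The pullback of the kernel of an epimorphism between locally free modules is the kernel of the pullback. -/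
theorem isIso_lift_pullback_kernel {Y Z : Scheme.{u}} (j : Y ⟶ Z) {M N : Z.Modules} (g : M ⟶ N) [Epi g]
    (hN : FlatMod.IsFinLocFree N) {M' N' : Y.Modules} (a : (Scheme.Modules.pullback j).obj M ≅ M')
    (b : (Scheme.Modules.pullback j).obj N ≅ N') (g' : M' ⟶ N')
    (h : (Scheme.Modules.pullback j).map g ≫ b.hom = a.hom ≫ g') :
    ∃ e : (Scheme.Modules.pullback j).obj (kernel g) ≅ kernel g',
      e.hom ≫ kernel.ι g' = (Scheme.Modules.pullback j).map (kernel.ι g) ≫ a.hom := by
  let S : ShortComplex Z.Modules := ShortComplex.mk (kernel.ι g) g (kernel.condition g)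
  have hS : (S.map (Scheme.Modules.pullback j)).ShortExact :=
    DCohLib.shortExact_pullback_of_isFlat j S (CMRegLib.shortExact_ker g)
      (fun x => PullbackMod.isFlat_of_isFinLocFree N hN x)
  have w : ((Scheme.Modules.pullback j).map (kernel.ι g) ≫ a.hom) ≫ g' = 0 := by
    rw [Category.assoc, ← h, ← Category.assoc, ← Functor.map_comp, kernel.condition, Functor.map_zero, zero_comp]
  let T : ShortComplex Y.Modules := ShortComplex.mk ((Scheme.Modules.pullback j).map (kernel.ι g) ≫ a.hom) g' w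
  let i : S.map (Scheme.Modules.pullback j) ≅ T :=
    ShortComplex.isoMk (Iso.refl _) a b (Category.id_comp _) h.symm
  have hT : T.ShortExact := ShortComplex.shortExact_of_iso i hS
  exact ⟨IsLimit.conePointUniqueUpToIso hT.fIsKernel (limit.isLimit (parallelPair g' 0)),
    IsLimit.conePointUniqueUpToIso_hom_comp hT.fIsKernel (limit.isLimit (parallelPair g' 0)) WalkingParallelPair.zero⟩

/-- The kernel system. -/
theorem exists_kernel_sys {𝔛 : FSch.Sys.{u}} [∀ n, IsLocallyNoetherian (𝔛.X n)] (𝔓 𝔐 : FSch.ModSys 𝔛)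
    (h𝔓 : ∀ n, FlatMod.IsFinLocFree (𝔓.F n)) (h𝔐 : ∀ n, FlatMod.IsFinLocFree (𝔐.F n))
    (θ : 𝔓 ⟶ 𝔐) (hθ : ∀ n, Epi (θ.app n)) :
    ∃ (𝔎 : FSch.ModSys 𝔛) (ι : 𝔎 ⟶ 𝔓), (∀ n, FlatMod.IsFinLocFree (𝔎.F n)) ∧
      ∀ n, ∃ (w : ι.app n ≫ θ.app n = 0), (ShortComplex.mk (ι.app n) (θ.app n) w).ShortExact := by
  choose e he using fun n =>
    haveI := hθ (n + 1)
    isIso_lift_pullback_kernel (𝔛.ι n) (θ.app (n + 1)) (h𝔐 (n + 1)) (𝔓.e n) (𝔐.e n) (θ.app n) (θ.comm n)
  refine ⟨⟨fun n => kernel (θ.app n), e⟩, ⟨fun n => kernel.ι (θ.app n), fun n => (he n).symm⟩, fun n => ?_,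
    fun n => ⟨kernel.condition _, ?_⟩⟩
  · haveI := hθ n
    exact FibVanLib.flf_kernel_of_epi (h𝔓 n) (h𝔐 n) (θ.app n)
  · haveI := hθ n
    exact CMRegLib.shortExact_ker _

end Groth.Agent.LeffCore
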