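import Groth.Agent.LeffCoreLib.Stalk
import Groth.Agent.FExistLib.Bridge
import Groth.Agent.LefAmpleLib.IdealPow
import Groth.Prelude.Def_LefX

/-!
# The two sequences between the levels of a locally free system along an effective Cartier divisor
-/

set_option autoImplicit false
set_option backward.isDefEq.respectTransparency false
set_option linter.style.haveILetI false
set_option maxHeartbeats 1000000

universe u

open CategoryTheory CategoryTheory.Limits AlgebraicGeometry TopologicalSpace Opposite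
open Groth.Agent.PullbackMod

noncomputable section

namespace Groth.Agent.LeffCore

variable {X : Scheme.{u}}

/-- A stalk of the direct image of a locally free module on a closed subscheme. -/
theorem exists_stalk_pi (K : X.IdealSheafData) {M : K.subscheme.Modules} (hM : FlatMod.IsFinLocFree M) (x : X) :
    ∃ r : ℕ, Nonempty (((Scheme.Modules.pushforward K.subschemeι).obj M).presheaf.stalk x ≃ₗ[X.presheaf.stalk x]
      (Fin r → X.presheaf.stalk x ⧸ IntMult.stalkIdeal K x)) := by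
  by_cases hx : x ∈ Set.range K.subschemeι
  · obtain ⟨z, rfl⟩ := hx
    haveI := (PullbackMod.isQCoh_and_isFP_of_isFinLocFree M hM).1
    obtain ⟨V, r, hzV, ⟨i⟩⟩ := hM z
    obtain ⟨e⟩ := PullbackMod.freeAt_of_restrict_iso _ i hzV
    let R := X.presheaf.stalk (K.subschemeι z)
    let S := K.subscheme.presheaf.stalk z
    letI : Algebra R S := (K.subschemeι.stalkMap z).hom.toAlgebra
    letI : Module R (M.presheaf.stalk z) := Module.compHom _ (K.subschemeι.stalkMap z).hom
    haveI : IsScalarTower R S (M.presheaf.stalk z) := .of_algebraMap_smul fun _ _ => rfl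
    let φ : R →ₐ[R] S := Algebra.ofId R S
    have hφ : Function.Surjective φ := K.subschemeι.stalkMap_surjective z
    let c : (R ⧸ IntMult.stalkIdeal K (K.subschemeι z)) ≃ₐ[R] S :=
      (Ideal.quotientEquivAlgOfEq R (IdealStalkLib.ker_stalkMap_subschemeι K z).symm).trans
        (Ideal.quotientKerAlgEquivOfSurjective (f := φ) hφ)
    let σ : ((Scheme.Modules.pushforward K.subschemeι).obj M).presheaf.stalk (K.subschemeι z) ≃ₗ[R]
        M.presheaf.stalk z :=
      LinearEquiv.ofBijective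
        ({ toFun := DCohLib.pushStalk K.subschemeι M z
           map_add' := map_add _
           map_smul' := fun a w => DCohLib.pushStalk_smul K.subschemeι M z a w } : _ →ₗ[R] M.presheaf.stalk z)
        (DCohLib.bijective_pushStalk K.subschemeι M z)
    exact ⟨r, ⟨σ ≪≫ₗ e.restrictScalars R ≪≫ₗ LinearEquiv.piCongrRight fun _ => c.symm.toLinearEquiv⟩⟩
  · haveI : Subsingleton (((Scheme.Modules.pushforward K.subschemeι).obj M).presheaf.stalk x) :=
      DCohLib.subsingleton_stalk_pushforward K.subschemeι _ x hx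
    exact ⟨0, ⟨LinearEquiv.ofSubsingleton _ _⟩⟩

/-- Adjuncts of isomorphisms are reductions, at the stalks. -/
theorem stalk_homEquiv_iso (K : X.IdealSheafData) (M : X.Modules) [Coh.IsQCoh M] {N : K.subscheme.Modules}
    (c : (Scheme.Modules.pullback K.subschemeι).obj M ≅ N) (x : X) :
    Function.Surjective
        (stalkLin ((Scheme.Modules.pullbackPushforwardAdjunction K.subschemeι).homEquiv M N c.hom) x) ∧
      LinearMap.ker (stalkLin ((Scheme.Modules.pullbackPushforwardAdjunction K.subschemeι).homEquiv M N c.hom) x) =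
        IntMult.stalkIdeal K x • ⊤ := by
  obtain ⟨h1, h2⟩ := stalk_iqπ K M x
  let ρ := (Scheme.Modules.pushforward K.subschemeι).map c.hom
  have hρ : Function.Bijective (stalkLin ρ x) :=
    ⟨(mono_iff_stalk ρ).1 inferInstance x, (epi_iff_stalk ρ).1 inferInstance x⟩
  rw [Adjunction.homEquiv_unit, stalkLin_comp]
  refine ⟨hρ.2.comp h1, ?_⟩
  rw [LinearMap.ker_comp, LinearMap.ker_eq_bot.2 hρ.1]
  exact h2

theorem mem_smul_pi {R : Type u} [CommRing R] (u : R) {ι : Type} {M : ι → Type u} [∀ i, AddCommGroup (M i)]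
    [∀ i, Module R (M i)] (y : ∀ i, M i) (h : ∀ i, ∃ m, u • m = y i) : ∃ m : ∀ i, M i, u • m = y := by
  choose m hm using h
  exact ⟨m, funext hm⟩

/-- In a free module over `R / (u ^ (a + b))` the annihilator of `u ^ b` is the multiples of `u ^ a`. -/
theorem ann_pow {R : Type u} [CommRing R] (u : R) (hu : u ∈ nonZeroDivisors R) (a b : ℕ) {M : Type u}
    [AddCommGroup M] [Module R M] {r : ℕ} (e : M ≃ₗ[R] (Fin r → R ⧸ Ideal.span {u ^ (a + b)})) (m : M) :
    u ^ b • m = 0 ↔ m ∈ Ideal.span {u ^ a} • (⊤ : Submodule R M) := by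
  rw [Submodule.ideal_span_singleton_smul, Submodule.mem_smul_pointwise_iff_exists]
  have hz : ∀ y : Fin r → R ⧸ Ideal.span {u ^ (a + b)}, u ^ (a + b) • y = 0 := fun y => funext fun i => by
    obtain ⟨c, hc⟩ := Ideal.Quotient.mk_surjective (y i)
    show u ^ (a + b) • y i = 0
    rw [← hc]
    exact Ideal.Quotient.eq_zero_iff_mem.2 (Ideal.mul_mem_right c _ (Ideal.mem_span_singleton_self _))
  constructor
  · intro h
    obtain ⟨y, hy⟩ := mem_smul_pi (u ^ a) (e m) fun i => by
      obtain ⟨c, hc⟩ := Ideal.Quotient.mk_surjective (e m i)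
      have h0 : u ^ b • e m i = 0 := by
        rw [← Pi.smul_apply, ← map_smul, h, map_zero]
        rfl
      rw [← hc] at h0
      obtain ⟨d, hd⟩ := Ideal.mem_span_singleton'.1 (Ideal.Quotient.eq_zero_iff_mem.1 h0)
      refine ⟨Ideal.Quotient.mk _ d, hc ▸ congrArg (Ideal.Quotient.mk _) ?_⟩
      refine (mul_cancel_left_mem_nonZeroDivisors (pow_mem hu b)).1 ?_
      simp only [smul_eq_mul] at hd ⊢
      rw [← hd, pow_add]
      ring
    exact ⟨e.symm y, trivial, by rw [← map_smul, hy, e.symm_apply_apply]⟩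
  · rintro ⟨y, -, rfl⟩
    refine e.injective ?_
    rw [smul_smul, ← pow_add, map_smul, map_zero]
    exact (congrArg (fun k => u ^ k • e y) (add_comm b a)).trans (hz _)

theorem mem_ker_comp {R : Type u} [CommRing R] {A B C : Type u} [AddCommGroup A] [Module R A] [AddCommGroup B]
    [Module R B] [AddCommGroup C] [Module R C] (J J' : Ideal R) (hJ : J' ≤ J) (f : A →ₗ[R] B) (g : B →ₗ[R] C)
    (hf : Function.Surjective f) (hfk : LinearMap.ker f = J' • ⊤) (hgk : LinearMap.ker g = J • ⊤) :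
    LinearMap.ker (g.comp f) = J • ⊤ := by
  have h1 : (J • (⊤ : Submodule R A)).map f = J • ⊤ := by
    rw [Submodule.map_smul'', Submodule.map_top, LinearMap.range_eq_top.2 hf]
  rw [LinearMap.ker_comp, hgk, ← h1, Submodule.comap_map_eq, hfk]
  exact sup_eq_left.2 (Submodule.smul_mono_left hJ)

variable {I : X.IdealSheafData} (𝔐 : FSch.ModSys (FSch.completionAlong X I))
  (h𝔐 : LefX.LevelwiseFinLocFree 𝔐)

include h𝔐 in
theorem isQCoh_obP (n : ℕ) : Coh.IsQCoh (FExist.obP I 𝔐 n) :=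
  haveI := (PullbackMod.isQCoh_and_isFP_of_isFinLocFree (𝔐.F n) (h𝔐 n)).1
  QCohLib.isQCoh_pushforward (𝔐.F n) (FSch.completionToX X I n)

/-- Adjuncts of isomorphisms onto a level. -/
theorem stalk_homEquiv_level (n : ℕ) (M : X.Modules) [Coh.IsQCoh M] {N : ((FSch.completionAlong X I).X n).Modules}
    (c : (Scheme.Modules.pullback (FSch.completionToX X I n)).obj M ≅ N) (x : X) :
    Function.Surjective (stalkLin ((FExist.adjL I n).homEquiv M N c.hom) x) ∧
      LinearMap.ker (stalkLin ((FExist.adjL I n).homEquiv M N c.hom) x) =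
        IntMult.stalkIdeal (I ^ (n + 1)) x • ⊤ :=
  stalk_homEquiv_iso (I ^ (n + 1)) M c x

/-- The identification of a level pulled back to the previous one. -/
def levelIso (n : ℕ) :
    (Scheme.Modules.pullback (FSch.completionToX X I n)).obj (FExist.obP I 𝔐 (n + 1)) ≅ 𝔐.F n :=
  FExist.absIso (FExist.adjL I (n + 1)) (Scheme.Modules.pullback ((FSch.completionAlong X I).ι n))
    (FSch.complTransIso I n) (𝔐.e n)

include h𝔐 in
/-- A transition map is reduction modulo a power of the ideal, at the stalks. -/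
theorem stalk_tN (n : ℕ) (x : X) : Function.Surjective (stalkLin (FExist.tN I 𝔐 n) x) ∧
    LinearMap.ker (stalkLin (FExist.tN I 𝔐 n) x) = IntMult.stalkIdeal I x ^ (n + 1) • ⊤ := by
  haveI := isQCoh_obP 𝔐 h𝔐 (n + 1)
  have e : FExist.tN I 𝔐 n = (FExist.adjL I n).homEquiv _ _ (levelIso 𝔐 n).hom :=
    FExist.absT_eq (FExist.adjL I n) (FExist.adjL I (n + 1))
      (Scheme.Modules.pullback ((FSch.completionAlong X I).ι n)) (FSch.complTransIso I n) (𝔐.e n)
  rw [e, ← FormalFree.stalkIdeal_pow]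
  exact stalk_homEquiv_level n (FExist.obP I 𝔐 (n + 1)) (levelIso 𝔐 n) x

/-- The projection to the bottom level. -/
def toBot : ∀ n, FExist.obP I 𝔐 n ⟶ FExist.obP I 𝔐 0
  | 0 => 𝟙 _
  | n + 1 => FExist.tN I 𝔐 n ≫ toBot n

theorem toBot_succ (n : ℕ) : toBot 𝔐 (n + 1) = FExist.tN I 𝔐 n ≫ toBot 𝔐 n := by rw [toBot]

theorem toBot_one : toBot 𝔐 1 = FExist.tN I 𝔐 0 := by rw [toBot_succ, toBot, Category.comp_id]

theorem ker_step {A B C : X.Modules} (f : A ⟶ B) (g : B ⟶ C) (x : X) (J J' : Ideal (X.presheaf.stalk x))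
    (hJ : J' ≤ J) (hf : Function.Surjective (stalkLin f x) ∧ LinearMap.ker (stalkLin f x) = J' • ⊤)
    (hg : Function.Surjective (stalkLin g x) ∧ LinearMap.ker (stalkLin g x) = J • ⊤) :
    Function.Surjective (stalkLin (f ≫ g) x) ∧ LinearMap.ker (stalkLin (f ≫ g) x) = J • ⊤ := by
  rw [stalkLin_comp]
  exact ⟨hg.1.comp hf.1, mem_ker_comp J J' hJ _ _ hf.1 hf.2 hg.2⟩

include h𝔐 in
theorem stalk_toBot (x : X) (n : ℕ) : Function.Surjective (stalkLin (toBot 𝔐 (n + 1)) x) ∧
    LinearMap.ker (stalkLin (toBot 𝔐 (n + 1)) x) = IntMult.stalkIdeal I x • ⊤ := by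
  induction n with
  | zero =>
    have := stalk_tN 𝔐 h𝔐 0 x
    rw [pow_one] at this
    rw [toBot_one]
    exact this
  | succ n ih =>
    rw [toBot_succ 𝔐 (n + 1)]
    exact ker_step _ _ x _ _ (Ideal.pow_le_self (by omega)) (stalk_tN 𝔐 h𝔐 (n + 1) x) ih

theorem isInvertible_idealMod_pow [IsNoetherian X] (hI : PicF.IsInvertible (ClSub.idealMod I)) (n : ℕ) :
    PicF.IsInvertible (ClSub.idealMod (I ^ (n + 1))) :=
  (S8914.result _).2 (LefAmpleLib.idealMod_pow_succ_aux ((S8914.result _).1 hI) n).1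

theorem exists_regular_gen (hI : PicF.IsInvertible (ClSub.idealMod I)) (x : X) :
    ∃ u ∈ nonZeroDivisors (X.presheaf.stalk x), IntMult.stalkIdeal I x = Ideal.span {u} := by
  obtain ⟨v, u, hu, hv, hvu⟩ := exists_gen hI x
  refine ⟨u, mem_nonZeroDivisors_iff_right.2 fun r hr => ?_, hu⟩
  have h1 : stalkLin (ClSub.idealModι I) x (r • v) = 0 := by
    rw [map_smul, hvu, smul_smul, hr, zero_smul]
  have h2 : r • v = 0 := (mono_iff_stalk (ClSub.idealModι I)).1 (inferInstanceAs (Mono (kernel.ι (ClSub.toSubscheme I)))) x (h1.trans (map_zero _).symm)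
  exact hv.1 (h2.trans (zero_smul _ v).symm)

include h𝔐 in
theorem ann_level (hI : PicF.IsInvertible (ClSub.idealMod I)) (n a b : ℕ) (hab : a + b = n + 2) (x : X)
    (m : (FExist.obP I 𝔐 (n + 1)).presheaf.stalk x) :
    (∀ c ∈ IntMult.stalkIdeal I x ^ b, c • m = 0) ↔
      m ∈ IntMult.stalkIdeal I x ^ a •
        (⊤ : Submodule (X.presheaf.stalk x) ((FExist.obP I 𝔐 (n + 1)).presheaf.stalk x)) := by
  obtain ⟨u, hu, hI'⟩ := exists_regular_gen hI x
  obtain ⟨r, ⟨e⟩⟩ := exists_stalk_pi (I ^ (n + 2)) (h𝔐 (n + 1)) x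
  have hK : IntMult.stalkIdeal (I ^ (n + 2)) x = Ideal.span {u ^ (a + b)} := by
    rw [FormalFree.stalkIdeal_pow, hI', Ideal.span_singleton_pow, hab]
  rw [hI', Ideal.span_singleton_pow, Ideal.span_singleton_pow]
  refine Iff.trans ⟨fun h => h _ (Ideal.mem_span_singleton_self _), fun h c hc => ?_⟩
    (ann_pow u hu a b (e ≪≫ₗ LinearEquiv.piCongrRight fun _ => Submodule.quotEquivOfEq _ _ hK) m)
  obtain ⟨d, rfl⟩ := Ideal.mem_span_singleton'.1 hc
  rw [mul_smul, h, smul_zero]

include h𝔐 in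
/-- The kernel of a transition map. -/
theorem exists_shortExact_trans [IsNoetherian X] (hI : PicF.IsInvertible (ClSub.idealMod I)) (n : ℕ) :
    ∃ (i : CohB1.tensorMod (ClSub.idealMod (I ^ (n + 1))) (FExist.obP I 𝔐 0) ⟶ FExist.obP I 𝔐 (n + 1))
      (w : i ≫ FExist.tN I 𝔐 n = 0), (ShortComplex.mk i (FExist.tN I 𝔐 n) w).ShortExact := by
  refine exists_shortExact_twist (isInvertible_idealMod_pow hI n) (toBot 𝔐 (n + 1)) (FExist.tN I 𝔐 n)
    (fun x => ?_) fun x => ⟨(stalk_toBot 𝔐 h𝔐 x n).1, fun m => ?_⟩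
  · rw [FormalFree.stalkIdeal_pow]
    exact stalk_tN 𝔐 h𝔐 n x
  · rw [← LinearMap.mem_ker, (stalk_toBot 𝔐 h𝔐 x n).2, FormalFree.stalkIdeal_pow,
      ann_level 𝔐 h𝔐 hI n 1 (n + 1) (by omega) x m, pow_one]

include h𝔐 in
/-- The kernel of the projection to the bottom level. -/
theorem exists_shortExact_bot (hI : PicF.IsInvertible (ClSub.idealMod I)) (n : ℕ) :
    ∃ (i : CohB1.tensorMod (ClSub.idealMod I) (FExist.obP I 𝔐 n) ⟶ FExist.obP I 𝔐 (n + 1))
      (w : i ≫ toBot 𝔐 (n + 1) = 0), (ShortComplex.mk i (toBot 𝔐 (n + 1)) w).ShortExact := by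
  refine exists_shortExact_twist hI (FExist.tN I 𝔐 n) (toBot 𝔐 (n + 1)) (fun x => stalk_toBot 𝔐 h𝔐 x n)
    fun x => ⟨(stalk_tN 𝔐 h𝔐 n x).1, fun m => ?_⟩
  rw [← LinearMap.mem_ker, (stalk_tN 𝔐 h𝔐 n x).2, ← ann_level 𝔐 h𝔐 hI n (n + 1) 1 (by omega) x m, pow_one]

end Groth.Agent.LeffCore
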