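import Groth.Agent.LeffCoreLib.Levels
import Groth.Agent.LefAmpleLib.Twist
import Groth.Agent.LefAmpleLib.Long
import Groth.Agent.PuncSecLib.HHLinear
import Groth.Agent.S0002

/-!
# Lifting sections of a twist from the bottom level to all levels
-/

set_option autoImplicit false
set_option backward.isDefEq.respectTransparency false
set_option linter.style.haveILetI false
set_option maxHeartbeats 1000000

universe u

open CategoryTheory CategoryTheory.Limits AlgebraicGeometry TopologicalSpace Opposite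
open Groth.Agent.CurveLib (tensR secOf)
open Groth.Agent.IntLib (mk mk_congr mk_tensor mk_structureModule mk_tensorPow mk_eq_mk)

noncomputable section

namespace Groth.Agent.LeffCore

section Algebra

/-- A chain of surjections out of a finite module over a Noetherian ring stabilises. -/
theorem exists_injective_of_surjective {R : Type*} [CommRing R] [IsNoetherianRing R] (D : ℕ → Type*)
    [∀ j, AddCommGroup (D j)] [∀ j, Module R (D j)] (f : ∀ j, D j →ₗ[R] D (j + 1)) [Module.Finite R (D 0)]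
    (hs : ∀ j, Function.Surjective (f j)) : ∃ j₀, ∀ j, j₀ ≤ j → Function.Injective (f j) := by
  let g : ∀ j, D 0 →ₗ[R] D j := fun j => Nat.rec LinearMap.id (fun k h => (f k).comp h) j
  have hg : ∀ j, Function.Surjective (g j) := by
    intro j
    induction j with
    | zero => exact Function.surjective_id
    | succ k ih => exact (hs k).comp ih
  let K : ℕ →o Submodule R (D 0) :=
    ⟨fun j => LinearMap.ker (g j), monotone_nat_of_le_succ fun j => LinearMap.ker_le_ker_comp (g j) (f j)⟩
  obtain ⟨n, hn⟩ := monotone_stabilizes_iff_noetherian.2 (inferInstance : IsNoetherian R (D 0)) K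
  refine ⟨n, fun j hj => (injective_iff_map_eq_zero _).2 fun y hy => ?_⟩
  obtain ⟨x, rfl⟩ := hg j y
  have h1 : x ∈ K (j + 1) := hy
  rw [← hn (j + 1) (hj.trans j.le_succ), hn j hj] at h1
  exact h1

end Algebra

section Cohomology

variable {X : Scheme.{u}}

/-- A scheme proper over a Noetherian ring is Noetherian. -/
theorem isNoetherian_of_proper (A : Type u) [CommRing A] [IsNoetherianRing A] [X.Over (Spec (CommRingCat.of A))]
    [IsProper (X ↘ Spec (CommRingCat.of A))] : AlgebraicGeometry.IsNoetherian X :=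
  haveI : IsLocallyNoetherian X := LocallyOfFiniteType.isLocallyNoetherian (X ↘ Spec (CommRingCat.of A))
  haveI : CompactSpace X := QuasiCompact.compactSpace_of_compactSpace (X ↘ Spec (CommRingCat.of A))
  { }

/-- Isomorphisms are bijective on cohomology. -/
theorem bijective_hMap_of_isIso {P Q : X.Modules} (g : P ⟶ Q) [IsIso g] (i : ℕ) :
    Function.Bijective (Sheaf.H.map ((SheafOfModules.toSheaf X.ringCatSheaf).map g) i) := by
  haveI : IsIso ((SheafOfModules.toSheaf X.ringCatSheaf).map g) := Functor.map_isIso _ g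
  refine Function.bijective_iff_has_inverse.2 ⟨Sheaf.H.map (inv ((SheafOfModules.toSheaf X.ringCatSheaf).map g)) i,
    fun z => ?_, fun z => ?_⟩
  · rw [← Sheaf.H.map_comp_apply, IsIso.hom_inv_id, Sheaf.H.map_id_apply]
  · rw [← Sheaf.H.map_comp_apply, IsIso.inv_hom_id, Sheaf.H.map_id_apply]

/-- Surjectivity in degree `p` from injectivity in degree `p + 1`. -/
theorem surjective_of_injective_next {T : ShortComplex (Sheaf (Opens.grothendieckTopology X) AddCommGrpCat.{u})}
    (hT : T.ShortExact) (p : ℕ) (h : Function.Injective (Sheaf.H.map T.f (p + 1))) :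
    Function.Surjective (Sheaf.H.map T.g p) := by
  intro x
  refine Abelian.Ext.covariant_sequence_exact₃ _ hT x rfl (h ?_)
  refine Eq.trans ?_ (map_zero _).symm
  show (x.comp hT.extClass rfl).comp (Abelian.Ext.mk₀ T.f) (add_zero _) = 0
  rw [Abelian.Ext.comp_assoc_of_third_deg_zero, hT.extClass_comp, Abelian.Ext.comp_zero]

/-- Surjectivity of the first map. -/
theorem surjective_H_map_f {T : ShortComplex (Sheaf (Opens.grothendieckTopology X) AddCommGrpCat.{u})}
    (hT : T.ShortExact) (p : ℕ) (h : Subsingleton (Sheaf.H T.X₃ p)) :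
    Function.Surjective (Sheaf.H.map T.f p) := by
  intro x
  haveI := h
  obtain ⟨y, hy⟩ := Abelian.Ext.covariant_sequence_exact₂ _ hT x (Subsingleton.elim (α := Sheaf.H T.X₃ p) _ _)
  exact ⟨y, hy⟩

/-- Tensoring a short exact sequence with an invertible module. -/
theorem shortExact_tensR_of_isInvertible {S : ShortComplex X.Modules} (hS : S.ShortExact) {B : X.Modules}
    (hB : PicF.IsInvertible B) : (S.map (tensR B)).ShortExact :=
  CurveLib.shortExact_tensR hS (CurveLib.freeAt_one_of_isInvertible hB)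

variable {P Q R B : X.Modules} {i : P ⟶ Q} {g : Q ⟶ R} {w : i ≫ g = 0}
  (hS : (ShortComplex.mk i g w).ShortExact) (hB : PicF.IsInvertible B)

include hS hB in
theorem bijective_twisted_g (h0 : Subsingleton (Coh.HH X ((tensR B).obj P) 0))
    (h1 : Subsingleton (Coh.HH X ((tensR B).obj P) 1)) :
    Function.Bijective (Sheaf.H.map ((SheafOfModules.toSheaf X.ringCatSheaf).map ((tensR B).map g)) 0) :=
  ⟨LefAmpleLib.injective_H_map_g (QCohLib.toAb_shortExact (shortExact_tensR_of_isInvertible hS hB)) 0 h0,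
    LefAmpleLib.surjective_H_map_g (QCohLib.toAb_shortExact (shortExact_tensR_of_isInvertible hS hB)) 0 h1⟩

include hS hB in
theorem surjective_twisted_f (h : Subsingleton (Coh.HH X ((tensR B).obj R) 1)) :
    Function.Surjective (Sheaf.H.map ((SheafOfModules.toSheaf X.ringCatSheaf).map ((tensR B).map i)) 1) :=
  surjective_H_map_f (QCohLib.toAb_shortExact (shortExact_tensR_of_isInvertible hS hB)) 1 h

include hS hB in
theorem surjective_twisted_g
    (h : Function.Injective (Sheaf.H.map ((SheafOfModules.toSheaf X.ringCatSheaf).map ((tensR B).map i)) 1)) :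
    Function.Surjective (Sheaf.H.map ((SheafOfModules.toSheaf X.ringCatSheaf).map ((tensR B).map g)) 0) :=
  surjective_of_injective_next (QCohLib.toAb_shortExact (shortExact_tensR_of_isInvertible hS hB)) 0 h

end Cohomology

variable {A : Type u} [CommRing A] [IsNoetherianRing A] {X : Scheme.{u}} [X.Over (Spec (CommRingCat.of A))]
  [IsProper (X ↘ Spec (CommRingCat.of A))] {I : X.IdealSheafData} {L : X.Modules}

variable (I) in
/-- Negative twists of a locally free module on the divisor have no cohomology in degrees zero and one. -/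
def EvVanishBot : Prop :=
  ∀ E₀ : ((FSch.completionAlong X I).X 0).Modules, FlatMod.IsFinLocFree E₀ →
    ∃ m₀ : ℕ, ∀ m, m₀ ≤ m → ∀ i, i < 2 → Subsingleton (Coh.HH X
      (CohB1.tensorMod ((Scheme.Modules.pushforward (FSch.completionToX X I 0)).obj E₀)
        (CohB1.tensorPow (ClSub.idealMod I) m)) i)

variable (hL : ClSub.IsInverseOf L (ClSub.idealMod I)) (hA : CohB1.IsAmple L) (hV : EvVanishBot I)
  (𝔐 : FSch.ModSys (FSch.completionAlong X I)) (h𝔐 : LefX.LevelwiseFinLocFree 𝔐)

omit [IsNoetherianRing A] [IsProper (X ↘ Spec (CommRingCat.of A))] [X.Over (Spec (CommRingCat.of A))] in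
include hL in
theorem mk_mul_mk : mk L * mk (ClSub.idealMod I) = 1 := by
  obtain ⟨η⟩ := hL
  exact (mk_congr η : _)

omit [IsNoetherianRing A] [IsProper (X ↘ Spec (CommRingCat.of A))] [X.Over (Spec (CommRingCat.of A))] in
include hL in
theorem nonempty_twist_iso [IsNoetherian X] (M : X.Modules) (n m j : ℕ) (h : n + 1 = m + j) :
    Nonempty (CohB1.tensorMod M (CohB1.tensorPow (ClSub.idealMod I) j) ≅
      (tensR (CohB1.tensorPow L m)).obj (CohB1.tensorMod (ClSub.idealMod (I ^ (n + 1))) M)) := by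
  obtain ⟨e⟩ := LefAmpleLib.nonempty_idealMod_pow_iso hL n
  rw [← mk_eq_mk]
  show mk M * mk (CohB1.tensorPow (ClSub.idealMod I) j) =
    mk (ClSub.idealMod (I ^ (n + 1))) * mk M * mk (CohB1.tensorPow L m)
  rw [← mk_congr e, mk_tensorPow, mk_tensorPow, mk_tensorPow, h, pow_add]
  calc mk M * mk (ClSub.idealMod I) ^ j = mk M * mk (ClSub.idealMod I) ^ j * (mk L * mk (ClSub.idealMod I)) ^ m := by
        rw [mk_mul_mk hL, one_pow, mul_one]
    _ = _ := by rw [mul_pow]; ac_rfl

omit [IsNoetherianRing A] [IsProper (X ↘ Spec (CommRingCat.of A))] [X.Over (Spec (CommRingCat.of A))] in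
include hL in
theorem nonempty_shift_iso (M : X.Modules) (m : ℕ) :
    Nonempty ((tensR (CohB1.tensorPow L m)).obj M ≅
      (tensR (CohB1.tensorPow L (m + 1))).obj (CohB1.tensorMod (ClSub.idealMod I) M)) := by
  rw [← mk_eq_mk]
  show mk M * mk (CohB1.tensorPow L m) = mk (ClSub.idealMod I) * mk M * mk (CohB1.tensorPow L (m + 1))
  rw [mk_tensorPow, mk_tensorPow, pow_succ]
  calc mk M * mk L ^ m = mk M * mk L ^ m * (mk L * mk (ClSub.idealMod I)) := by rw [mk_mul_mk hL, mul_one]
    _ = _ := by ac_rfl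

include A h𝔐 in
theorem isCoh_obP (n : ℕ) : Coh.IsCoh (FExist.obP I 𝔐 n) := by
  haveI : IsLocallyNoetherian X := LocallyOfFiniteType.isLocallyNoetherian (X ↘ Spec (CommRingCat.of A))
  haveI : IsLocallyNoetherian ((FSch.completionAlong X I).X n) :=
    LocallyOfFiniteType.isLocallyNoetherian (FSch.completionToX X I n)
  exact DevLib.isCoh_pushforward_closed (FSch.completionToX X I n) (CurveLib.isCoh_of_isFinLocFree (h𝔐 n))

/-- A twisted level. -/
abbrev tw (L : X.Modules) (m n : ℕ) : X.Modules := (tensR (CohB1.tensorPow L m)).obj (FExist.obP I 𝔐 n)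

/-- A twisted transition map. -/
abbrev twT (L : X.Modules) (m n : ℕ) : tw 𝔐 L m (n + 1) ⟶ tw 𝔐 L m n :=
  (tensR (CohB1.tensorPow L m)).map (FExist.tN I 𝔐 n)

include hL in
omit [IsNoetherianRing A] [IsProper (X ↘ Spec (CommRingCat.of A))] [X.Over (Spec (CommRingCat.of A))] in
theorem isInvertible_pair : PicF.IsInvertible L ∧ PicF.IsInvertible (ClSub.idealMod I) := by
  obtain ⟨η⟩ := hL
  exact ⟨AmpleLib.isInvertible_of_tensor_iso η,
    AmpleLib.isInvertible_of_tensor_iso (AmpleLib.comm _ _ ≪≫ η)⟩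

include A hL hV h𝔐 in
/-- Far up the tower the transition maps are bijective on sections of a twist. -/
theorem exists_bijective_twT : ∃ j₀, ∀ m n, m + j₀ ≤ n + 1 →
    Function.Bijective (Sheaf.H.map ((SheafOfModules.toSheaf X.ringCatSheaf).map (twT 𝔐 L m n)) 0) := by
  haveI := isNoetherian_of_proper A (X := X)
  obtain ⟨m₀, hm₀⟩ := hV (𝔐.F 0) (h𝔐 0)
  refine ⟨m₀, fun m n h => ?_⟩
  obtain ⟨j, hj⟩ : ∃ j, n + 1 = m + j := ⟨n + 1 - m, by omega⟩
  obtain ⟨i, w, hS⟩ := exists_shortExact_trans 𝔐 h𝔐 (isInvertible_pair hL).2 n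
  obtain ⟨e⟩ := nonempty_twist_iso hL (FExist.obP I 𝔐 0) n m j hj
  haveI := hm₀ j (by omega) 0 (by norm_num)
  haveI := hm₀ j (by omega) 1 (by norm_num)
  exact bijective_twisted_g hS (AmpleLib.isInvertible_tensorPow (isInvertible_pair hL).1 m)
    (ProjCoh.subsingleton_of_iso e 0) (ProjCoh.subsingleton_of_iso e 1)

include A in
theorem finite_HH_twist {M B : X.Modules} (hM : Coh.IsCoh M) (hB : Coh.IsCoh B) :
    Module.Finite A (Coh.HH X ((tensR B).obj M) 1) := by
  haveI : IsLocallyNoetherian X := LocallyOfFiniteType.isLocallyNoetherian (X ↘ Spec (CommRingCat.of A))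
  have h : Coh.IsCoh ((tensR B).obj M) := CurveLib.isCoh_tmod hM hB
  exact S0002.result A X _ h 1

include A hL h𝔐 in
/-- One step of the chain of first cohomology groups. -/
theorem exists_step (m n : ℕ) (h : Subsingleton (Coh.HH X (tw 𝔐 L (m + 1) 0) 1)) :
    ∃ F : Coh.HH X (tw 𝔐 L m n) 1 →ₗ[A] Coh.HH X (tw 𝔐 L (m + 1) (n + 1)) 1, Function.Surjective F ∧
      (Function.Injective F → Function.Surjective (Sheaf.H.map ((SheafOfModules.toSheaf X.ringCatSheaf).map
        ((tensR (CohB1.tensorPow L (m + 1))).map (toBot 𝔐 (n + 1)))) 0)) := by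
  have hI := (isInvertible_pair hL).2
  obtain ⟨i, w, hS⟩ := exists_shortExact_bot 𝔐 h𝔐 hI n
  obtain ⟨e⟩ := nonempty_shift_iso hL (FExist.obP I 𝔐 n) m
  have hB := AmpleLib.isInvertible_tensorPow (isInvertible_pair hL).1 (m + 1)
  let g₂ := (tensR (CohB1.tensorPow L (m + 1))).map i
  let F₁ := PuncSecLib.mapL (A := A) e.hom 1
  let F₂ := PuncSecLib.mapL (A := A) g₂ 1
  have h1 : Function.Bijective F₁ := bijective_hMap_of_isIso e.hom 1
  refine ⟨F₂.comp F₁, (surjective_twisted_f hS hB h).comp h1.2, fun hF => surjective_twisted_g hS hB ?_⟩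
  intro a b hab
  obtain ⟨a, rfl⟩ := h1.2 a
  obtain ⟨b, rfl⟩ := h1.2 b
  exact congrArg F₁ (hF hab)

include A hL hA hV h𝔐 in
/-- For large twists the sections of some high level surject onto those of the bottom level. -/
theorem exists_surjective_toBot : ∃ m₁, ∀ m, m₁ ≤ m → ∃ N, Function.Surjective
    (Sheaf.H.map ((SheafOfModules.toSheaf X.ringCatSheaf).map
      ((tensR (CohB1.tensorPow L m)).map (toBot 𝔐 N))) 0) ∧
    ∀ n, N ≤ n →
      Function.Bijective (Sheaf.H.map ((SheafOfModules.toSheaf X.ringCatSheaf).map (twT 𝔐 L m n)) 0) := by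
  haveI := isNoetherian_of_proper A (X := X)
  obtain ⟨j₀, hj₀⟩ := exists_bijective_twT (A := A) hL hV 𝔐 h𝔐
  obtain ⟨m₂, hm₂⟩ := AmpleEmb.serre_vanishing (X ↘ Spec (CommRingCat.of A)) hA (isCoh_obP (A := A) 𝔐 h𝔐 0)
  haveI hfin : Module.Finite A (Coh.HH X (tw 𝔐 L m₂ (j₀ + m₂)) 1) :=
    finite_HH_twist (isCoh_obP (A := A) 𝔐 h𝔐 _)
      (CurveLib.isCoh_of_isInvertible (AmpleLib.isInvertible_tensorPow (isInvertible_pair hL).1 m₂))
  choose F hFs hFi using fun j : ℕ => exists_step (A := A) hL 𝔐 h𝔐 (m₂ + j) (j₀ + m₂ + j)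
    (hm₂ (m₂ + j + 1) (by omega) 1 Nat.one_pos)
  obtain ⟨J, hJ⟩ := exists_injective_of_surjective
    (fun j => Coh.HH X (tw 𝔐 L (m₂ + j) (j₀ + m₂ + j)) 1) F hFs
  refine ⟨m₂ + J + 1, fun m hm => ?_⟩
  obtain ⟨j, rfl⟩ : ∃ j, m = m₂ + j + 1 := ⟨m - m₂ - 1, by omega⟩
  exact ⟨j₀ + m₂ + j + 1, hFi j (hJ j (by omega)), fun n hn => hj₀ _ n (by omega)⟩

end Groth.Agent.LeffCore
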