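import Groth.Agent.LeffCoreLib.Algz
import Groth.Agent.LefAmpleLib.Leff

/-!
# Algebraization of levelwise locally free systems along an ample divisor
-/

set_option autoImplicit false
set_option backward.isDefEq.respectTransparency false
set_option linter.style.haveILetI false
set_option maxHeartbeats 1000000

universe u

open CategoryTheory CategoryTheory.Limits AlgebraicGeometry TopologicalSpace Opposite

noncomputable section

namespace Groth.Agent.LeffCore

/-- Two exact sequences with the same cokernel, up to an epimorphism on the left. -/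
theorem exists_iso_cokernel {C : Type*} [Category C] [Abelian C] {R K P E G : C} {t : R ⟶ K} [Epi t] {i : K ⟶ P}
    {g : P ⟶ E} {w : i ≫ g = 0} (h : (ShortComplex.mk i g w).ShortExact) {f : R ⟶ P} {c : P ⟶ G}
    {w' : f ≫ c = 0} (h' : (ShortComplex.mk f c w').Exact) [Epi c] (hf : f = t ≫ i) :
    ∃ ρ : G ≅ E, c ≫ ρ.hom = g := by
  haveI : Epi g := h.epi_g
  subst hf
  have h1 : i ≫ c = 0 := by rw [← cancel_epi t, ← Category.assoc, w', comp_zero]
  let a : E ⟶ G := h.exact.desc c h1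
  let b : G ⟶ E := h'.desc g (show (t ≫ i) ≫ g = 0 by rw [Category.assoc, w, comp_zero])
  have ha : g ≫ a = c := h.exact.g_desc c h1
  have hb : c ≫ b = g := h'.g_desc g _
  refine ⟨⟨b, a, ?_, ?_⟩, hb⟩
  · rw [← cancel_epi c, ← Category.assoc, hb, ha, Category.comp_id]
  · rw [← cancel_epi g, ← Category.assoc, ha, hb, Category.comp_id]

variable {X : Scheme.{u}} {I : X.IdealSheafData}

/-- The pullback of a cokernel sequence. -/
theorem exact_pullback_cokernel {Z : Scheme.{u}} (j : Z ⟶ X) {P' P : X.Modules} (φ : P' ⟶ P) :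
    ∃ w : (Scheme.Modules.pullback j).map φ ≫ (Scheme.Modules.pullback j).map (cokernel.π φ) = 0,
      (ShortComplex.mk _ _ w).Exact ∧ Epi ((Scheme.Modules.pullback j).map (cokernel.π φ)) := by
  refine ⟨by rw [← Functor.map_comp, cokernel.condition, Functor.map_zero], ?_, inferInstance⟩
  have hS : (ShortComplex.mk φ (cokernel.π φ) (cokernel.condition φ)).Exact :=
    ShortComplex.exact_of_g_is_cokernel _ (cokernelIsCokernel φ)
  exact hS.map_of_epi_of_preservesCokernel (Scheme.Modules.pullback j) inferInstance inferInstance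

/-- A system with a presentation by completions is a completion. -/
theorem nonempty_iso_of_presentation {P' P : X.Modules} (φ : P' ⟶ P)
    {𝔎 𝔐 : FSch.ModSys (FSch.completionAlong X I)} (ι : 𝔎 ⟶ FSch.complMod I P)
    (θ : FSch.complMod I P ⟶ 𝔐) (θ' : FSch.complMod I P' ⟶ 𝔎)
    (hι : ∀ n, ∃ w : ι.app n ≫ θ.app n = 0, (ShortComplex.mk (ι.app n) (θ.app n) w).ShortExact)
    (hθ' : ∀ n, Epi (θ'.app n)) (hφ : FSch.complModMap I φ = θ' ≫ ι) :
    Nonempty (FSch.complMod I (cokernel φ) ≅ 𝔐) := by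
  have hρ : ∀ n, ∃ ρ : (FSch.complMod I (cokernel φ)).F n ≅ 𝔐.F n,
      (Scheme.Modules.pullback (FSch.completionToX X I n)).map (cokernel.π φ) ≫ ρ.hom = θ.app n := fun n => by
    obtain ⟨w, hw⟩ := hι n
    obtain ⟨w', hw', hepi⟩ := exact_pullback_cokernel (FSch.completionToX X I n) φ
    haveI := hθ' n
    exact exists_iso_cokernel (t := θ'.app n) hw hw'
      (show (Scheme.Modules.pullback (FSch.completionToX X I n)).map φ = θ'.app n ≫ ι.app n from
        congrArg (fun f => f.app n) hφ)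
  choose ρ hρ using hρ
  let cπ := FSch.complModMap I (cokernel.π φ)
  have hcπ : ∀ n, cπ.app n ≫ (ρ n).hom = θ.app n := hρ
  have hcomm : ∀ n, (Scheme.Modules.pullback ((FSch.completionAlong X I).ι n)).map (ρ (n + 1)).hom ≫ (𝔐.e n).hom =
      ((FSch.complMod I (cokernel φ)).e n).hom ≫ (ρ n).hom := fun n => by
    haveI : Epi (cπ.app (n + 1)) :=
      inferInstanceAs (Epi ((Scheme.Modules.pullback (FSch.completionToX X I (n + 1))).map (cokernel.π φ)))
    refine (cancel_epi ((Scheme.Modules.pullback ((FSch.completionAlong X I).ι n)).map (cπ.app (n + 1)))).1 ?_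
    rw [← Functor.map_comp_assoc, hcπ, θ.comm, ← Category.assoc _ _ (ρ n).hom, cπ.comm, Category.assoc, hcπ]
  refine ⟨⟨⟨fun n => (ρ n).hom, hcomm⟩, ⟨fun n => (ρ n).inv, fun n => ?_⟩, ?_, ?_⟩⟩
  · rw [Iso.eq_comp_inv, Category.assoc, ← hcomm, ← Functor.map_comp_assoc, Iso.inv_hom_id]
    simp
  · exact FSch.ModSys.Hom.ext (funext fun n => (ρ n).hom_inv_id)
  · exact FSch.ModSys.Hom.ext (funext fun n => (ρ n).inv_hom_id)

/-- The free locus of a coherent module whose completion is levelwise locally free. -/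
theorem exists_locFree_nhd_of_iso [AlgebraicGeometry.IsNoetherian X] (I : X.IdealSheafData) {F : X.Modules}
    (hF : Coh.IsCoh F) {𝔐 : FSch.ModSys (FSch.completionAlong X I)} (a : FSch.complMod I F ≅ 𝔐)
    (h : LefX.LevelwiseFinLocFree 𝔐) :
    ∃ (U : X.Opens) (E : (U : Scheme.{u}).Modules), (I.support : Set X) ⊆ (U : Set X) ∧
      FlatMod.IsFinLocFree E ∧
      Nonempty (FSch.completionMod I ((Scheme.Modules.pushforward U.ι).obj E) ≅ 𝔐) := by
  haveI := hF.1
  have hFP := QCohLib.isFP_of_isCoh F hF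
  let U : X.Opens := ⟨⋃ r : ℕ, {x | PullbackMod.FreeAt r F x},
    isOpen_iUnion fun r => PullbackMod.isOpen_freeAt F hFP r⟩
  have hlev : ∀ n, FlatMod.IsFinLocFree ((Scheme.Modules.pullback (I ^ (n + 1)).subschemeι).obj F) := fun n =>
    DCohLib.isFinLocFree_iso ⟨a.inv.app n, a.hom.app n, congrArg (fun φ => φ.app n) a.inv_hom_id,
      congrArg (fun φ => φ.app n) a.hom_inv_id⟩ (h n)
  have hsub : (I.support : Set X) ⊆ (U : Set X) := fun x hx =>
    Set.mem_iUnion.2 (LefAmpleLib.exists_freeAt_of_levels hF I hlev hx)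
  refine ⟨U, (Scheme.Modules.restrictFunctor U.ι).obj F, hsub, fun y => ?_, ?_⟩
  · obtain ⟨r, hr⟩ := Set.mem_iUnion.1 y.2
    obtain ⟨V, hyV, ⟨i⟩⟩ := PullbackMod.exists_nhd_freeAt F hFP hr
    let W : (U : Scheme.{u}).Opens := U.ι ⁻¹ᵁ V
    obtain ⟨k, hk⟩ : ∃ k : (W : Scheme.{u}) ⟶ (V : Scheme.{u}), k ≫ V.ι = W.ι ≫ U.ι :=
      ⟨IsOpenImmersion.lift V.ι (W.ι ≫ U.ι) (by
        rw [V.range_ι]; rintro _ ⟨w, rfl⟩; exact w.2), IsOpenImmersion.lift_fac _ _ _⟩
    haveI : IsOpenImmersion k := by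
      haveI : IsOpenImmersion (k ≫ V.ι) := hk ▸ inferInstance
      exact IsOpenImmersion.of_comp k V.ι
    exact ⟨W, r, hyV, ⟨((Scheme.Modules.restrictFunctorComp W.ι U.ι).symm ≪≫
      Scheme.Modules.restrictFunctorCongr hk.symm ≪≫ Scheme.Modules.restrictFunctorComp k V.ι).app F ≪≫
      (Scheme.Modules.restrictFunctor k).mapIso i ≪≫ DCohLib.restrictFreeMod k r⟩⟩
  · obtain ⟨b⟩ := LefAmpleLib.nonempty_completionMod_push_iso I U hsub F
    exact ⟨b ≪≫ a⟩

variable {A : Type u} [CommRing A] [IsNoetherianRing A] [X.Over (Spec (CommRingCat.of A))]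
  [IsProper (X ↘ Spec (CommRingCat.of A))] {L : X.Modules}

include A in
/-- Algebraization: a levelwise locally free system is the completion of a locally free module on a neighbourhood. -/
theorem exists_locFree_nhd (hL : ClSub.IsInverseOf L (ClSub.idealMod I)) (hA : CohB1.IsAmple L) (hV : EvVanishBot I)
    (hW : EvVanishTot I) (𝔐 : FSch.ModSys (FSch.completionAlong X I)) (h𝔐 : LefX.LevelwiseFinLocFree 𝔐) :
    ∃ (U : X.Opens) (E : (U : Scheme.{u}).Modules), (I.support : Set X) ⊆ (U : Set X) ∧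
      FlatMod.IsFinLocFree E ∧
      Nonempty (FSch.completionMod I ((Scheme.Modules.pushforward U.ι).obj E) ≅ 𝔐) := by
  haveI := isNoetherian_of_proper A (X := X)
  haveI : ∀ n, IsLocallyNoetherian ((FSch.completionAlong X I).X n) := fun n =>
    LocallyOfFiniteType.isLocallyNoetherian (FSch.completionToX X I n)
  obtain ⟨P, θ, -, hP, hθ⟩ := exists_epi_completion (A := A) hL hA hV 𝔐 h𝔐
  obtain ⟨𝔎, ι, h𝔎, hι⟩ := exists_kernel_sys (FSch.complMod I P) 𝔐
    (fun n => PullbackMod.isFinLocFree_pullback (FSch.completionToX X I n) P hP) h𝔐 θ hθ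
  obtain ⟨P', θ', hP't, hP', hθ'⟩ := exists_epi_completion (A := A) hL hA hV 𝔎 h𝔎
  obtain ⟨φ, hφ⟩ := exists_complModMap_eq (isInvertible_pair hL).2 hW hP't hP' hP (θ' ≫ ι)
  obtain ⟨c⟩ := nonempty_iso_of_presentation φ ι θ θ' hι hθ' hφ
  exact exists_locFree_nhd_of_iso I
    (QCohLib.isCoh_kernel_cokernel φ (CurveLib.isCoh_of_isFinLocFree hP') (CurveLib.isCoh_of_isFinLocFree hP)).2 c h𝔐

end Groth.Agent.LeffCore
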