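import Groth.Agent.LeffCoreLib.Main
import Groth.Agent.FibVanLib.Lef
import Groth.Agent.FinSurjLib.Vanish

/-!
# Vanishing hypotheses from depth in the fibres
-/

set_option autoImplicit false
set_option backward.isDefEq.respectTransparency false
set_option linter.style.haveILetI false
set_option maxHeartbeats 1000000

universe u

open CategoryTheory CategoryTheory.Limits AlgebraicGeometry TopologicalSpace
open Groth.Agent.CurveLib (tensR)

noncomputable section

namespace Groth.Agent.LeffCore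

variable {X S : Scheme.{u}} (f : X ⟶ S) [IsProper f] [IsLocallyNoetherian S] [IsAffine S]
  {I : X.IdealSheafData} {L : X.Modules} (hL : ClSub.IsInverseOf L (ClSub.idealMod I)) (hA : CohB1.IsAmple L)

include f hL hA in
theorem evVanishTot_of_fibre (hflat : FlatMod.IsFlatOver f (Coh.structureModule X))
    (hdepth : FibVanLib.FibreDepthGE f (Coh.structureModule X) 2) : EvVanishTot I :=
  fun _ hD => FibVanLib.eventually_idealMod f hflat hL hA hdepth hD

include f hL hA in
theorem evVanish_closed {Z : Scheme.{u}} (j : Z ⟶ X) [IsClosedImmersion j] [Flat (j ≫ f)]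
    (hdepth : FibVanLib.FibreDepthGE (j ≫ f) (Coh.structureModule Z) 2) {E₀ : Z.Modules}
    (hE₀ : FlatMod.IsFinLocFree E₀) :
    ∃ m₀ : ℕ, ∀ m, m₀ ≤ m → ∀ i, i < 2 → Subsingleton (Coh.HH X
      (CohB1.tensorMod ((Scheme.Modules.pushforward j).obj E₀) (CohB1.tensorPow (ClSub.idealMod I) m)) i) := by
  haveI : IsLocallyNoetherian X := LocallyOfFiniteType.isLocallyNoetherian f
  haveI : IsLocallyNoetherian Z := LocallyOfFiniteType.isLocallyNoetherian j
  obtain ⟨η⟩ := id hL
  let L₀ := (Scheme.Modules.pullback j).obj L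
  let L₀' := (Scheme.Modules.pullback j).obj (ClSub.idealMod I)
  let η₀ : CohB1.tensorMod L₀ L₀' ≅ Coh.structureModule Z :=
    (AmpleLib.pullTensor j L (ClSub.idealMod I)).symm ≪≫ (Scheme.Modules.pullback j).mapIso η ≪≫ AmpleLib.pullO j
  obtain ⟨m₀, hm₀⟩ := FibVanLib.eventually_HH (j ≫ f) (AmpleLib.isAmple_pullback j hA) η₀
    (DevLib.isCoh_structureModule Z) (BCLib.isFlatOver_structureModule (j ≫ f)) hdepth hE₀
  refine ⟨m₀, fun m hm i hi => ?_⟩
  have hI : PicF.IsInvertible (ClSub.idealMod I) := (isInvertible_pair hL).2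
  have hP := AmpleLib.isInvertible_tensorPow hI m
  have hcoh : Coh.IsCoh (CohB1.tensorMod E₀ ((Scheme.Modules.pullback j).obj (CohB1.tensorPow (ClSub.idealMod I) m))) :=
    CurveLib.isCoh_tmod (CurveLib.isCoh_of_isFinLocFree hE₀)
      (CurveLib.isCoh_of_isInvertible (AmpleLib.isInvertible_pullback j hP))
  haveI : Coh.IsQCoh (DCohLib.tmod E₀ ((Scheme.Modules.pullback j).obj (CohB1.tensorPow (ClSub.idealMod I) m))) :=
    hcoh.1
  haveI := hm₀ m hm i hi
  refine FinSurjLib.subsingleton_push_tmod j hP E₀ i ?_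
  exact ProjCoh.subsingleton_of_iso (AmpleLib.unitL _ ≪≫
    AmpleLib.tIso (Iso.refl E₀) (AmpleLib.pullPow j (ClSub.idealMod I) m).symm) i

include f hL hA in
theorem evVanishBot_of_fibre [Flat (I.subschemeι ≫ f)]
    (hdepth : FibVanLib.FibreDepthGE (I.subschemeι ≫ f) (Coh.structureModule I.subscheme) 2) :
    EvVanishBot I := by
  have h : ∀ K : X.IdealSheafData, K = I → Flat (K.subschemeι ≫ f) ∧
      FibVanLib.FibreDepthGE (K.subschemeι ≫ f) (Coh.structureModule K.subscheme) 2 := by
    rintro K rfl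
    exact ⟨inferInstance, hdepth⟩
  obtain ⟨h1, h2⟩ := h (I ^ (0 + 1)) (pow_one I)
  intro E₀ hE₀
  haveI : Flat (FSch.completionToX X I 0 ≫ f) := h1
  exact evVanish_closed f hL hA (FSch.completionToX X I 0) h2 hE₀

end Groth.Agent.LeffCore
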